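import Mathlib.Algebra.Polynomial.Laurent
import Mathlib.Algebra.Polynomial.Roots
import Mathlib.RingTheory.UniqueFactorizationDomain.Basic
import Mathlib.Algebra.Polynomial.FieldDivision
import Mathlib.FieldTheory.IsAlgClosed.Basic

/-!
Laurent polynomials as functions on the invertible scalars.
-/

set_option autoImplicit false

universe u

open LaurentPolynomial
open scoped Polynomial

namespace Groth.Agent.H60.MuTorus

variable {k : Type u} [Field k]

theorem eval_toLaurent (a : kˣ) (P : k[X]) :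
    LaurentPolynomial.eval₂ (RingHom.id k) a (Polynomial.toLaurent P) = P.eval (a : k) := by
  rw [eval₂_toLaurent]; rfl

theorem exists_toLaurent_eq (f : k[T;T⁻¹]) :
    ∃ (N : ℕ) (P : k[X]), f * T N = Polynomial.toLaurent P := by
  obtain ⟨n, P, hP⟩ := f.exists_T_pow
  exact ⟨n, P, hP.symm⟩

theorem eq_of_eval_eq [Infinite k] {P Q : k[T;T⁻¹]}
    (h : ∀ a : kˣ, LaurentPolynomial.eval₂ (RingHom.id k) a P = LaurentPolynomial.eval₂ (RingHom.id k) a Q) :
    P = Q := by
  rw [← sub_eq_zero]
  obtain ⟨N, R, hR⟩ := exists_toLaurent_eq (P - Q)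
  have hR0 : R = 0 := by
    refine R.eq_zero_of_infinite_isRoot (((Set.finite_singleton (0 : k)).infinite_compl).mono fun a ha => ?_)
    have h1 := congrArg (LaurentPolynomial.eval₂ (RingHom.id k) (Units.mk0 a ha)) hR
    rw [map_mul, map_sub, h, sub_self, zero_mul, eval_toLaurent] at h1
    exact h1.symm
  rw [hR0, map_zero] at hR
  exact (isUnit_T (R := k) (N : ℤ)).mul_left_eq_zero.1 hR

/-- An invertible function on the punctured line is a character once it is one at the identity. -/
theorem eq_T_of_mul_eq_one {C D : k[T;T⁻¹]} (h : C * D = 1)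
    (h1 : LaurentPolynomial.eval₂ (RingHom.id k) 1 C = 1) : ∃ w : ℤ, C = T w := by
  obtain ⟨N, P, hP⟩ := exists_toLaurent_eq C
  obtain ⟨M, Q, hQ⟩ := exists_toLaurent_eq D
  have hPQ : P * Q = Polynomial.X ^ (N + M) := by
    refine Polynomial.toLaurent_injective ?_
    rw [map_mul, ← hP, ← hQ, mul_mul_mul_comm, h, one_mul, ← T_add, Polynomial.toLaurent_X_pow]
    norm_num
  obtain ⟨j, -, hj⟩ := (dvd_prime_pow (Polynomial.prime_X (R := k)) (N + M)).1 ⟨Q, hPQ.symm⟩
  obtain ⟨v, hv⟩ := hj.symm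
  obtain ⟨c, -, hc⟩ := Polynomial.isUnit_iff.1 v.isUnit
  have hC : C * T N = LaurentPolynomial.C c * T j := by
    rw [hP, ← hv, ← hc, map_mul, Polynomial.toLaurent_C, Polynomial.toLaurent_X_pow, mul_comm]
  have hc1 : c = 1 := by
    have h2 := congrArg (LaurentPolynomial.eval₂ (RingHom.id k) (1 : kˣ)) hC
    simpa [h1] using h2.symm
  refine ⟨(j : ℤ) - N, ?_⟩
  rw [hc1, map_one, one_mul] at hC
  refine (isUnit_T (R := k) (N : ℤ)).mul_left_injective ?_
  change C * T N = T ((j : ℤ) - N) * T N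
  rw [hC, ← T_add, sub_add_cancel]

end Groth.Agent.H60.MuTorus
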