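import Groth.Agent.H60.MuTorus.Models
import Groth.Agent.H60.MuTorus.Laurent
import Groth.Agent.H1.Classical.MaxTorusApply
import Groth.Agent.H1.Classical.ParabolicField
import Groth.Agent.H87.SplitMax

/-!
Every one-parameter subgroup is conjugate into a maximal torus.
-/

set_option autoImplicit false
set_option backward.isDefEq.respectTransparency false
set_option backward.isDefEq.respectTransparency.types false

universe u

open CategoryTheory CategoryTheory.Limits AlgebraicGeometry MonoidalCategory CartesianMonoidalCategory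
open MonObj GrpObj Opposite Groth.Agent.Lib Groth.Agent.Lib.RedPts Groth.Agent.Lib.RedPts.Points
open Groth.Agent.H1.Classical Scheme' MaxTorusScheme MaxTorusApply WithConv LaurentPolynomial Torus Torus.Centraliser Complete

namespace Groth.Agent.H60.MuTorus

noncomputable section

variable {k : Type u} [Field k] [IsAlgClosed k]

/-- Over an algebraically closed field a maximal torus is maximal among subtori. -/
theorem isMaxTorus_of_isMaximalTorus {T G : Over (base k)} [GrpObj T] [GrpObj G] {i : T ⟶ G}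
    (hi : Red.IsMaximalTorus i) : AGF.IsMaxTorus i := by
  obtain ⟨hm, hmono, hT, hmax⟩ := hi
  refine ⟨hm, hmono, hT, fun T' _ j _ _ f hT' hf => ?_⟩
  let s : ↥(base k) := IsLocalRing.closedPoint k
  obtain ⟨halg, hint, heq⟩ := exists_geomPt_eq s
  haveI := hint
  haveI : IsIso (Red.geomPt s) := by
    rw [heq]
    have hb := IsAlgClosed.algebraMap_bijective_of_isIntegral (k := k)
      (K := AlgebraicClosure ((Spec (CommRingCat.of k)).residueField s))
    haveI : IsIso (CommRingCat.ofHom (algebraMap k (AlgebraicClosure ((Spec (CommRingCat.of k)).residueField s)))) :=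
      (ConcreteCategory.isIso_iff_bijective _).2 hb
    change IsIso (Spec.map (CommRingCat.ofHom (algebraMap k (AlgebraicClosure ((Spec (CommRingCat.of k)).residueField s)))))
    infer_instance
  haveI : (Over.pullback (Red.geomPt s)).IsEquivalence :=
    (Over.mapPullbackAdj (Red.geomPt s)).isEquivalence_right_of_isEquivalence_left
  haveI := hmax s ((Over.pullback (Red.geomPt s)).obj T') ((Over.pullback (Red.geomPt s)).map j)
    ((Over.pullback (Red.geomPt s)).map f) (Groth.Agent.Lib.Tori.Basic.isTorus_bc hT' _)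
    (by rw [← Functor.map_comp, hf])
  exact isIso_of_reflects_iso f (Over.pullback (Red.geomPt s))

/-- A reductive group over an algebraically closed field is affine, smooth and connected. -/
theorem reductive_props {G : Over (base k)} [GrpObj G] (hG : Red.IsReductive G) :
    IsAffine G.left ∧ Smooth G.hom ∧ ConnectedSpace G.left := by
  obtain ⟨haff, hsm, hred⟩ := hG
  haveI := haff
  haveI := hsm
  refine ⟨isAffine_of_isAffineHom G.hom, hsm, ?_⟩
  let s : ↥(base k) := IsLocalRing.closedPoint k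
  haveI : ConnectedSpace (Red.geomFibre s G).left := (hred s).2.2.1
  haveI : Surjective (Red.geomPt s) := ⟨fun x => ⟨IsLocalRing.closedPoint _,
    Subsingleton.elim (α := PrimeSpectrum k) _ _⟩⟩
  haveI : ConnectedSpace ↥(pullback G.hom (Red.geomPt s)) := ‹ConnectedSpace (Red.geomFibre s G).left›
  exact (pullback.fst G.hom (Red.geomPt s)).surjective.connectedSpace
    (pullback.fst G.hom (Red.geomPt s)).continuous

theorem exists_gm (x : 𝟙_ (Over (base k)) ⟶ Red.Gm (base k)) : ∃ b : kˣ, x = gm b := by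
  refine ⟨Units.map (ev (k := k)).toMonoidHom (GmPts.unitOfPt x), ?_⟩
  rw [gm, ← GmPts.ptOfUnit_unitOfPt x]
  congr 1
  refine Units.ext (ev_injective ?_)
  rw [GmPts.unitOfPt_ptOfUnit]
  exact (ev_evInv _).symm

variable {A : Type u} [CommRing A] [HopfAlgebra k A] [Algebra.FiniteType k A] [IsDomain A]

attribute [local instance] baseAlgebra

/-- A one-parameter subgroup of a group lies on points in a torus. -/
theorem exists_tor (l : Red.Gm (base k) ⟶ GA k A) [IsMonHom l] :
    ∃ Z : Subgroup (HopfPts.Pt k A), IsTor (HopfPts.D k A) Z ∧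
      ∀ b : kˣ, ∃ s ∈ Z, gm b ≫ l = ptHom _ s := by
  classical
  choose φ hφ using fun b : kˣ => ptHom_surjective (A := A) (gm b ≫ l)
  have hone : φ 1 = 1 := ptHom_injective (by rw [hφ, map_one, gm_one, MonObj.one_comp])
  have hmul : ∀ b c, φ (b * c) = φ b * φ c := fun b c =>
    ptHom_injective (by rw [map_mul, hφ, hφ, hφ, gm_mul, MonObj.mul_comp])
  let q : A →+* k[T;T⁻¹] := (fn k[T;T⁻¹]).comp (algHomOf (η₁ ≫ l)).toRingHom
  have hq : ∀ b a, (φ b).ofConv a = evalL b (q a) := by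
    intro b a
    have h1 : algebraMap k Γ((𝟙_ (Over (base k))).left, ⊤) ((φ b).ofConv a) =
        (σG (gm b)).left.appTop (algHomOf (η₁ ≫ l) a) := by
      rw [← algHomOf_ptHom, hφ, ← algHomOf_comp, ← Category.assoc, σG_η₁]
    have h2 := congrArg ev h1
    rw [ev_σG_gm] at h2
    refine Eq.trans ?_ h2
    change (φ b).ofConv a = ev (str (𝟙_ (Over (base k))) ((φ b).ofConv a))
    rw [str_one, ev_evInv]
  let D := HopfPts.D k A
  let S₀ : Set (HopfPts.Pt k A) := Set.range φ
  let Zs := D.zero (D.vI S₀)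
  have hsub : S₀ ⊆ Zs := D.subset_zero_vI S₀
  have hleft : ∀ b, ∀ z ∈ Zs, φ b * z ∈ Zs := fun b z hz f hf =>
    hz ⟨_, D.lmul (φ b) _ f.2⟩ (by
      rintro _ ⟨c, rfl⟩
      exact hf _ ⟨b * c, hmul b c⟩)
  have hZmul : ∀ w ∈ Zs, ∀ z ∈ Zs, w * z ∈ Zs := fun w hw z hz f hf =>
    hw ⟨_, D.rmul z _ f.2⟩ (by
      rintro _ ⟨c, rfl⟩
      exact hleft c z hz f hf)
  have hZinv : ∀ z ∈ Zs, z⁻¹ ∈ Zs := fun z hz f hf =>
    hz ⟨_, D.inv _ f.2⟩ (by
      rintro _ ⟨c, rfl⟩
      have hc : φ c⁻¹ = (φ c)⁻¹ := eq_inv_of_mul_eq_one_left (by rw [← hmul, inv_mul_cancel, hone])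
      exact hf _ ⟨c⁻¹, hc⟩)
  have hext : ∀ {x y : HopfPts.Pt k A}, (∀ f ∈ D.R, f x = f y) → x = y := fun h => pts_ext _ _ h
  have hcomm' : ∀ b, ∀ z ∈ Zs, φ b * z = z * φ b := fun b z hz => hext fun f hf => sub_eq_zero.1
    (hz (⟨_, D.lmul (φ b) _ hf⟩ - ⟨_, D.rmul (φ b) _ hf⟩) (by
      rintro _ ⟨c, rfl⟩
      change f (φ b * φ c) - f (φ c * φ b) = 0
      rw [← hmul, ← hmul, mul_comm b c, sub_self]))
  have hcomm : ∀ w ∈ Zs, ∀ z ∈ Zs, w * z = z * w := fun w hw z hz => hext fun f hf => sub_eq_zero.1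
    (hw (⟨_, D.rmul z _ hf⟩ - ⟨_, D.lmul z _ hf⟩) (by
      rintro _ ⟨c, rfl⟩
      change f (φ c * z) - f (z * φ c) = 0
      rw [hcomm' c z hz, sub_self]))
  let Z : Subgroup (HopfPts.Pt k A) :=
    { carrier := Zs
      mul_mem' := fun {a b} ha hb => hZmul a ha b hb
      one_mem' := hsub ⟨1, hone⟩
      inv_mem' := fun {a} ha => hZinv a ha }
  refine ⟨Z, ⟨D.isCl_zero _, ?_, hcomm, ?_⟩, fun b => ⟨φ b, hsub ⟨b, rfl⟩, (hφ b).symm⟩⟩
  · rintro ⟨_, a, rfl⟩ ⟨_, a', rfl⟩ h
    have h0 : q a * q a' = 0 := eq_of_eval_eq fun b => by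
      rw [map_mul, ← hq, ← hq, map_zero]
      exact h _ (hsub ⟨b, rfl⟩)
    rcases mul_eq_zero.1 h0 with h1 | h1
    · left
      intro z hz
      refine hz _ ?_
      rintro _ ⟨b, rfl⟩
      exact (hq b a).trans (by rw [h1, map_zero])
    · right
      intro z hz
      refine hz _ ?_
      rintro _ ⟨b, rfl⟩
      exact (hq b a').trans (by rw [h1, map_zero])
  · rintro _ ⟨a, rfl⟩ h z hz
    refine hz ⟨_, a, rfl⟩ ?_
    rintro _ ⟨b, rfl⟩
    obtain ⟨N, P, hP⟩ := exists_toLaurent_eq (q a)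
    have hP0 : P = 0 := by
      by_contra hne
      obtain ⟨m, hm, hmd⟩ : ∃ m : ℕ, (m : k) ≠ 0 ∧ P.natDegree < m := by
        by_cases h1 : ((P.natDegree + 1 : ℕ) : k) = 0
        · refine ⟨P.natDegree + 2, ?_, by omega⟩
          rw [show P.natDegree + 2 = P.natDegree + 1 + 1 from rfl, Nat.cast_add, h1, zero_add, Nat.cast_one]
          exact one_ne_zero
        · exact ⟨_, h1, by omega⟩
      have hsep : (Polynomial.X ^ m - Polynomial.C (1 : k)).Separable :=
        Polynomial.separable_X_pow_sub_C 1 hm one_ne_zero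
      let roots := (Polynomial.X ^ m - Polynomial.C (1 : k)).roots.toFinset
      have hcard : roots.card = m := by
        rw [Multiset.toFinset_card_of_nodup (Polynomial.nodup_roots hsep),
          IsAlgClosed.card_roots_eq_natDegree, Polynomial.natDegree_X_pow_sub_C]
      refine hne (Polynomial.eq_zero_of_natDegree_lt_card_of_eval_eq_zero' P roots (fun r hr => ?_) (hcard ▸ hmd))
      obtain ⟨-, hr'⟩ := Polynomial.mem_roots'.1 (Multiset.mem_toFinset.1 hr)
      simp only [Polynomial.IsRoot.def, Polynomial.eval_sub, Polynomial.eval_pow, Polynomial.eval_X,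
        Polynomial.eval_C, sub_eq_zero] at hr'
      have hm0 : m ≠ 0 := by omega
      have hr0 : r ≠ 0 := by rintro rfl; rw [zero_pow hm0] at hr'; exact zero_ne_one hr'
      let u : kˣ := Units.mk0 r hr0
      have hu : φ u ^ m = 1 := by
        have hpow : ∀ n : ℕ, φ u ^ n = φ (u ^ n) := fun n => by
          induction n with
          | zero => rw [pow_zero, pow_zero, hone]
          | succ n ih => rw [pow_succ, pow_succ, hmul, ih]
        rw [hpow, show u ^ m = 1 from Units.ext (by simpa [u] using hr'), hone]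
      have h2 : (φ u).ofConv a = 0 := h (φ u) (hsub ⟨u, rfl⟩) ⟨m, hm, hu⟩
      have h3 := congrArg (evalL u) hP
      rw [map_mul, ← hq, h2, zero_mul] at h3
      exact h3.trans (eval_toLaurent u P) |>.symm
    rw [hP0, map_zero] at hP
    refine (hq b a).trans ?_
    rw [(isUnit_T (R := k) (N : ℤ)).mul_left_eq_zero.1 hP, map_zero]

/-- Every one-parameter subgroup is conjugate into a maximal torus. -/
theorem exists_conj_torus {G T₀ : Over (base k)} [GrpObj G] [GrpObj T₀] [IsAffine G.left] [Smooth G.hom]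
    [ConnectedSpace G.left] {i : T₀ ⟶ G} [IsMonHom i] (hi : AGF.IsMaxTorus i) (l : Red.Gm (base k) ⟶ G)
    [IsMonHom l] :
    ∃ (γ : 𝟙_ (Over (base k)) ⟶ G) (p : Red.Gm (base k) ⟶ T₀), IsMonHom p ∧ p ≫ i = AGF.conjBy γ l := by
  obtain ⟨A', _, _, _, _, e, he⟩ := exists_GA G
  haveI := he
  haveI := locallyOfFiniteType (k := k) (A := A')
  haveI := hi.2.1
  obtain ⟨hc, hs, -, ha⟩ := TorusPts.torus_props (i ≫ e.hom) hi.2.2.1
  haveI := hc
  haveI := hs
  haveI := ha
  obtain ⟨Z, hZ, hZl⟩ := exists_tor (l ≫ e.hom)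
  obtain ⟨W, _, σ, hσ⟩ := Torus.GenRep.exists_gen (HopfPts.D k A') hasMul_pts pts_ext
  obtain ⟨B, hB⟩ := exists_bor (k := k) (A := A')
  obtain ⟨T₁, -, hT₁, hinto, -⟩ := MaxTorus.exists_max hasMul_pts hσ hB
  obtain ⟨g, hg⟩ := MaxTorus.conj hasMul_pts hσ hB hT₁ (isMax_ptsOf_torus _ (isMaxTorus_comp e hi))
  obtain ⟨a₀, ha₀⟩ := hinto Z hZ
  let c := g * a₀
  have hmem : ∀ s ∈ Z, c * s * c⁻¹ ∈ ptsOf (i ≫ e.hom) := fun s hs => by
    rw [← hg, show c * s * c⁻¹ = g * (a₀ * s * a₀⁻¹) * g⁻¹ by simp only [c]; group]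
    exact ⟨_, ha₀ s hs, rfl⟩
  have hGm : Red.IsTorus (Red.Gm (base k)) := Groth.Agent.Lib.Tori.Basic.isTorus_Gm _
  haveI : Smooth (Red.Gm (base k)).hom := Groth.Agent.Lib.Tori.Basic.smooth_of_isTorus hGm
  haveI := Groth.Agent.Lib.Tori.Basic.isAffineHom_of_isTorus hGm
  haveI : IsAffine (Red.Gm (base k)).left := isAffine_of_isAffineHom (Red.Gm (base k)).hom
  obtain ⟨p, hp⟩ := exists_factor (i ≫ e.hom) (AGF.conjBy (ptHom _ c) (l ≫ e.hom)) fun x => by
    obtain ⟨b, rfl⟩ := exists_gm x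
    obtain ⟨s, hs, hbs⟩ := hZl b
    exact ⟨c * s * c⁻¹, hmem s hs, point_conj c s _ _ hbs⟩
  have h : p ≫ i = AGF.conjBy (ptHom _ c ≫ e.inv) l := conjBy_comp_eq e _ hp
  refine ⟨_, p, H87.HomDS.isMonHom_of_points p fun Y x y => ?_, h⟩
  rw [← cancel_mono i, MonObj.mul_comp _ _ i, Category.assoc, Category.assoc, Category.assoc, h, conj_comp, conj_comp,
    conj_comp, MonObj.mul_comp _ _ l, AGF.conjBy, AGF.conjBy, AGF.conjBy]
  group

end

end Groth.Agent.H60.MuTorus
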