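import Groth.Agent.H60.MuTorus.Decomp
import Groth.Agent.H1.Classical.TorusPts
import Groth.Agent.H87.SplitMax
import Mathlib.RingTheory.Int.Basic

/-!
The numerical function on a split torus as a maximum of linear functionals.
-/

set_option autoImplicit false
set_option backward.isDefEq.respectTransparency false
set_option backward.isDefEq.respectTransparency.types false

universe u

open CategoryTheory CategoryTheory.Limits AlgebraicGeometry MonoidalCategory CartesianMonoidalCategory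
open MonObj Opposite Groth.Agent.Lib Groth.Agent.Lib.RedPts Groth.Agent.H1.Classical LaurentPolynomial

namespace Groth.Agent.H60.MuTorus

noncomputable section

variable {k : Type u} [Field k] [IsAlgClosed k]

attribute [local instance] Points.baseAlgebra in
/-- A torus over an algebraically closed field is a standard one. -/
theorem exists_split (T : Over (base k)) [GrpObj T] (hT : Red.IsTorus T) :
    ∃ (r : ℕ) (e : T ≅ Magnet.AMonS (base k) (Fin r → ℤ)), IsMonHom e.hom := by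
  haveI := Groth.Agent.Lib.Tori.Basic.smooth_of_isTorus hT
  haveI := Groth.Agent.Lib.Tori.Basic.isAffineHom_of_isTorus hT
  haveI : IsAffine T.left := isAffine_of_isAffineHom T.hom
  obtain ⟨A, _, _, e, he⟩ := Groth.Agent.H1.Hopf.exists_iso T
  haveI := he
  haveI : Algebra.FiniteType k A := Scheme'.finiteType_of_iso e
  have hT' := Groth.Agent.Lib.Tori.Basic.isTorus_congr (Groth.Agent.Lib.Tori.BaseChange.grpIso e).symm hT
  obtain ⟨r, ⟨ε⟩⟩ := TorusSplit.isSplit_of_isTorus hT'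
  have : IsMonHom (Groth.Agent.Lib.Tori.BaseChange.overIso ε).hom := inferInstance
  exact ⟨r, e ≪≫ Groth.Agent.Lib.Tori.BaseChange.overIso ε,
    inferInstanceAs (IsMonHom (e.hom ≫ (Groth.Agent.Lib.Tori.BaseChange.overIso ε).hom))⟩

/-- Characters of a free abelian group separate. -/
theorem exists_char_ne_one {r : ℕ} (m : Fin r → ℤ) (hm : m ≠ 0) :
    ∃ t : Multiplicative (Fin r → ℤ) →* k, t (Multiplicative.ofAdd m) ≠ 1 := by
  obtain ⟨i, hi⟩ := Function.ne_iff.1 hm
  obtain ⟨n, hn, hn0⟩ : ∃ n : ℕ, n = (m i).natAbs ∧ n ≠ 0 := ⟨_, rfl, Int.natAbs_ne_zero.2 hi⟩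
  obtain ⟨a, ha⟩ := ((Polynomial.finite_setOf_isRoot (p := Polynomial.X * (Polynomial.X ^ n - Polynomial.C (1 : k)))
    (mul_ne_zero Polynomial.X_ne_zero (Polynomial.X_pow_sub_C_ne_zero (Nat.pos_of_ne_zero hn0) 1))).infinite_compl).nonempty
  simp only [Set.mem_compl_iff, Set.mem_setOf_eq, Polynomial.IsRoot.def, Polynomial.eval_mul, Polynomial.eval_X,
    Polynomial.eval_sub, Polynomial.eval_pow, Polynomial.eval_C, mul_eq_zero, not_or, sub_eq_zero] at ha
  let u : kˣ := Units.mk0 a ha.1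
  refine ⟨(Units.coeHom k).comp
    { toFun := fun x => u ^ (x.toAdd i), map_one' := by simp, map_mul' := fun x y => by simp [zpow_add] }, ?_⟩
  intro h
  have h1 : u ^ (m i) = 1 := Units.ext (by simpa using h)
  have h2 : u ^ n = 1 := by
    rcases Int.natAbs_eq (m i) with h3 | h3
    · rw [h3, zpow_natCast, ← hn] at h1; exact h1
    · rw [h3, zpow_neg, inv_eq_one, zpow_natCast, ← hn] at h1; exact h1
  exact ha.2 (by simpa [u] using congrArg Units.val h2)

variable {M : Type} [AddCommGroup M]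

omit [IsAlgClosed k] in
theorem gm_eq (b : kˣ) : gm b = σG (gm b) ≫ η₁ := (σG_η₁ _).symm

/-- The character obtained by pairing with a morphism from the multiplicative group. -/
def qf (l : Red.Gm (base k) ⟶ Magnet.AMonS (base k) M) (m : M) : k[T;T⁻¹] :=
  fn _ (GrpSch.monFn (η₁ ≫ l) m)

omit [IsAlgClosed k] in
theorem evalL_qf (l : Red.Gm (base k) ⟶ Magnet.AMonS (base k) M) (m : M) (b : kˣ) :
    evalL b (qf l m) = ev (GrpSch.monFn (gm b ≫ l) m) := by
  rw [qf, ← ev_σG_gm, ← GrpSch.monFn_comp, ← Category.assoc, σG_η₁]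

open Classical in
/-- The pairing of a one-parameter subgroup with a character. -/
def dg (l : Red.Gm (base k) ⟶ Magnet.AMonS (base k) M) (m : M) : ℤ :=
  if h : ∃ w : ℤ, qf l m = T w then h.choose else 0

omit [IsAlgClosed k] in
theorem T_injective {p q : ℤ} (h : (T p : k[T;T⁻¹]) = T q) : p = q := by
  have h2 := congrArg LaurentPolynomial.degree h
  rw [degree_T, degree_T] at h2
  exact WithBot.coe_injective h2

omit [IsAlgClosed k] in
theorem dg_eq {l : Red.Gm (base k) ⟶ Magnet.AMonS (base k) M} {m : M} {w : ℤ} (h : qf l m = T w) : dg l m = w := by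
  have hex : ∃ w : ℤ, qf l m = T w := ⟨w, h⟩
  rw [dg, dif_pos hex]
  exact T_injective (hex.choose_spec.symm.trans h)

theorem qf_eq_T (l : Red.Gm (base k) ⟶ Magnet.AMonS (base k) M) [IsMonHom l] (m : M) : qf l m = T (dg l m) := by
  obtain ⟨w, hw⟩ := eq_T_of_mul_eq_one (C := qf l m) (D := qf l (-m))
    (by rw [qf, qf, ← map_mul, ← GrpSch.monFn_add, add_neg_cancel, GrpSch.monFn_zero, map_one])
    (by rw [evalL_qf, gm_one, MonObj.one_comp, GrpSch.monFn_one, map_one])
  rw [dg_eq hw, hw]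

theorem dg_mul (l₁ l₂ : Red.Gm (base k) ⟶ Magnet.AMonS (base k) M) [IsMonHom l₁] [IsMonHom l₂] (m : M) :
    dg (l₁ * l₂) m = dg l₁ m + dg l₂ m := dg_eq (by
  rw [T_add, ← qf_eq_T l₁, ← qf_eq_T l₂, qf, qf, qf, MonObj.comp_mul, GrpSch.monFn_mul, map_mul])

theorem dg_add (l : Red.Gm (base k) ⟶ Magnet.AMonS (base k) M) [IsMonHom l] (m m' : M) :
    dg l (m + m') = dg l m + dg l m' := dg_eq (by
  rw [T_add, ← qf_eq_T l, ← qf_eq_T l, qf, qf, qf, GrpSch.monFn_add, map_mul])

theorem monFn_gm (l : Red.Gm (base k) ⟶ Magnet.AMonS (base k) M) [IsMonHom l] (m : M) (b : kˣ) :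
    ev (GrpSch.monFn (gm b ≫ l) m) = ((b ^ dg l m : kˣ) : k) := by
  rw [← evalL_qf, qf_eq_T, evalL_T]

variable {G X : Over (base k)} [GrpObj G] {a : AlgGrp.Action G X} (B : GLinSh.LinBun G a)

theorem semi_of_semiT (j : Magnet.AMonS (base k) M ⟶ G) [IsMonHom j]
    (l : Red.Gm (base k) ⟶ Magnet.AMonS (base k) M) [IsMonHom l] {m : M} {f : Γ(B.V.left, ⊤)}
    (hs : SemiT B j m f) : Semi B (l ≫ j) (dg l m) f := by
  intro b v
  let t : Multiplicative M →* k :=
    { toFun := fun x => ev (GrpSch.monFn (gm b ≫ l) x.toAdd)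
      map_one' := by rw [toAdd_one, GrpSch.monFn_zero, map_one]
      map_mul' := fun x y => by rw [toAdd_mul, GrpSch.monFn_add, map_mul] }
  have ht : tp t = gm b ≫ l := GrpSch.monFn_ext fun x => ev_injective (by rw [monFn_tp, ev_evInv]; rfl)
  rw [← Category.assoc, ← ht, hs t v]
  congr 1
  exact monFn_gm l m b

/-- The linear functionals describing the numerical function on a torus. -/
theorem exists_functionals [IsProper X.hom] {T₀ : Over (base k)} [GrpObj T₀] (hT : Red.IsTorus T₀) (i : T₀ ⟶ G)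
    [IsMonHom i] (hB : HMNum.AmpleCover B) :
    ∃ (n : ℕ) (ℓ : Fin n → (Red.Gm (base k) ⟶ T₀) → ℚ),
      (∀ (j : Fin n) (l₁ l₂ : Red.Gm (base k) ⟶ T₀) [IsMonHom l₁] [IsMonHom l₂],
          ℓ j (l₁ * l₂) = ℓ j l₁ + ℓ j l₂) ∧
      ∀ (x : Pt X), ∃ I : Finset (Fin n),
        ∀ (l : Red.Gm (base k) ⟶ T₀) [IsMonHom l] (m : ℤ),
          HMNum.IsMu B (l ≫ i) x m ↔ ∃ j ∈ I, (m : ℚ) = ℓ j l ∧ ∀ j' ∈ I, ℓ j' l ≤ ℓ j l := by
  classical
  obtain ⟨r, e, he⟩ := exists_split T₀ hT
  haveI := he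
  haveI : IsMonHom e.inv := inferInstance
  let j₀ := e.inv ≫ i
  haveI : IsMonHom j₀ := inferInstance
  obtain ⟨N, n, f, m, hprops, hcov⟩ := exists_family B j₀ (fun m hm => exists_char_ne_one m hm) hB
  refine ⟨N, fun j l => -(dg (l ≫ e.hom) (m j) : ℚ) / n j, fun j l₁ l₂ _ _ => ?_, fun x => ?_⟩
  · simp only
    rw [MonObj.mul_comp, dg_mul]
    push_cast
    ring
  refine ⟨Finset.univ.filter fun j => Nz B (f j) x, fun l _ m₀ => ?_⟩
  have hl : l ≫ i = (l ≫ e.hom) ≫ j₀ := by simp [j₀]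
  have h := isMu_iff B (l := (l ≫ e.hom) ≫ j₀) n (fun j => (hprops j).1) f (fun j => dg (l ≫ e.hom) (m j))
    (fun j => (hprops j).2.1) (fun j => semi_of_semiT B j₀ (l ≫ e.hom) (hprops j).2.2) hcov x m₀
  simp only [hl, h, Finset.mem_filter, Finset.mem_univ, true_and]

end

end Groth.Agent.H60.MuTorus
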