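import Groth.Agent.H60.MuTorus.Torus
import Mathlib.LinearAlgebra.FiniteDimensional.Basic
import Mathlib.Algebra.QuadraticDiscriminant
import Mathlib.RingTheory.Localization.Integer

/-!
Linear functionals on one-parameter subgroups of a torus are bounded by a positive form.
-/

set_option autoImplicit false
set_option backward.isDefEq.respectTransparency false
set_option backward.isDefEq.respectTransparency.types false

universe u

open CategoryTheory CategoryTheory.Limits AlgebraicGeometry MonoidalCategory CartesianMonoidalCategory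
open MonObj Opposite Groth.Agent.Lib LaurentPolynomial

namespace Groth.Agent.H60.MuTorus

/-- A linear form on a lattice is bounded by a positive definite rational form. -/
theorem exists_sq_le {r : ℕ} (β : (Fin r → ℤ) → (Fin r → ℤ) → ℚ)
    (hadd : ∀ u v w, β (u + v) w = β u w + β v w) (hsymm : ∀ v w, β v w = β w v)
    (hpos : ∀ v, v ≠ 0 → 0 < β v v) (c : Fin r → ℚ) :
    ∃ C : ℚ, 0 ≤ C ∧ ∀ v : Fin r → ℤ, (∑ i, c i * v i) ^ 2 ≤ C * β v v := by
  classical
  let G : Fin r → Fin r → ℚ := fun i j => β (Pi.single i 1) (Pi.single j 1)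
  have hlin : ∀ v w, β v w = ∑ i, (v i : ℚ) * β (Pi.single i 1) w := fun v w => by
    let f : (Fin r → ℤ) →+ ℚ := AddMonoidHom.mk' (fun v => β v w) fun a b => hadd a b w
    change f v = ∑ i, (v i : ℚ) * f (Pi.single i 1)
    conv_lhs => rw [pi_eq_sum_univ' v]
    rw [map_sum]
    refine Finset.sum_congr rfl fun i _ => ?_
    rw [map_zsmul, zsmul_eq_mul]
  let Q : (Fin r → ℚ) → (Fin r → ℚ) → ℚ := fun x y => ∑ i, ∑ j, x i * y j * G i j
  have hQ : ∀ v w : Fin r → ℤ, Q (fun i => v i) (fun i => w i) = β v w := fun v w => by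
    rw [hlin v w]
    refine Finset.sum_congr rfl fun i _ => ?_
    rw [hsymm, hlin w (Pi.single i 1), Finset.mul_sum]
    exact Finset.sum_congr rfl fun j _ => by rw [hsymm]; ring
  have hGs : ∀ i j, G i j = G j i := fun i j => hsymm _ _
  have hQs : ∀ x y, Q x y = Q y x := fun x y => by
    simp only [Q]
    rw [Finset.sum_comm]
    exact Finset.sum_congr rfl fun i _ => Finset.sum_congr rfl fun j _ => by rw [hGs j i]; ring
  have hQadd : ∀ x y z, Q (x + y) z = Q x z + Q y z := fun x y z => by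
    simp only [Q, ← Finset.sum_add_distrib, Pi.add_apply]
    exact Finset.sum_congr rfl fun i _ => Finset.sum_congr rfl fun j _ => by ring
  have hQsmul : ∀ (t : ℚ) x z, Q (t • x) z = t * Q x z := fun t x z => by
    simp only [Q, Finset.mul_sum, Pi.smul_apply, smul_eq_mul]
    exact Finset.sum_congr rfl fun i _ => Finset.sum_congr rfl fun j _ => by ring
  have hQpos : ∀ x, x ≠ 0 → 0 < Q x x := fun x hx => by
    obtain ⟨⟨N, hN⟩, hNx⟩ := IsLocalization.exist_integer_multiples (nonZeroDivisors ℤ) Finset.univ x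
    choose z hz using fun i => hNx i (Finset.mem_univ i)
    have hN0 : (N : ℚ) ≠ 0 := Int.cast_ne_zero.2 (nonZeroDivisors.ne_zero hN)
    have hzx : (fun i => (z i : ℚ)) = (N : ℚ) • x := funext fun i => by
      have := hz i
      simpa [zsmul_eq_mul] using this
    have hz0 : z ≠ 0 := fun h0 => hx (by
      have : (N : ℚ) • x = 0 := by rw [← hzx, h0]; simp [funext_iff]
      exact (smul_eq_zero.1 this).resolve_left hN0)
    have h := hpos z hz0
    rw [← hQ z z, hzx, hQsmul, hQs x, hQsmul, ← _root_.mul_assoc] at h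
    exact (mul_pos_iff_of_pos_left (mul_self_pos.2 hN0)).1 h
  have hQnn : ∀ x, 0 ≤ Q x x := fun x => by
    by_cases hx : x = 0
    · simp [hx, Q]
    · exact (hQpos x hx).le
  let φ : (Fin r → ℚ) →ₗ[ℚ] (Fin r → ℚ) :=
    { toFun := fun x j => ∑ i, x i * G i j
      map_add' := fun x y => funext fun j => by
        simp only [Pi.add_apply, ← Finset.sum_add_distrib]
        exact Finset.sum_congr rfl fun i _ => by ring
      map_smul' := fun t x => funext fun j => by
        simp only [Pi.smul_apply, smul_eq_mul, RingHom.id_apply, Finset.mul_sum]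
        exact Finset.sum_congr rfl fun i _ => by ring }
  have hφ : ∀ x y, Q x y = ∑ j, φ x j * y j := fun x y => by
    simp only [Q, φ, LinearMap.coe_mk, AddHom.coe_mk, Finset.sum_mul]
    rw [Finset.sum_comm]
    exact Finset.sum_congr rfl fun j _ => Finset.sum_congr rfl fun i _ => by ring
  have hinj : Function.Injective φ := (injective_iff_map_eq_zero φ).2 fun x hx => by
    by_contra h0
    have := hQpos x h0
    rw [hφ, hx] at this
    simp at this
  obtain ⟨w, hw⟩ := LinearMap.surjective_of_injective hinj c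
  refine ⟨Q w w, hQnn w, fun v => ?_⟩
  let y : Fin r → ℚ := fun i => v i
  have hc : ∑ i, c i * (v i : ℚ) = Q w y := by rw [hφ, hw]
  have hquad : ∀ t : ℚ, 0 ≤ Q w w * (t * t) + 2 * Q w y * t + Q y y := fun t => by
    have h := hQnn (t • w + y)
    rw [hQadd, hQsmul, hQs w, hQs y, hQadd, hQsmul, hQadd, hQsmul, hQs y w] at h
    linear_combination h
  have hd := discrim_le_zero hquad
  rw [discrim] at hd
  rw [hc, ← hQ v v]
  nlinarith [hd]

noncomputable section

/-- A morphism compatible with the group laws on points is a homomorphism. -/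
theorem isMonHom_of_mul {S : Scheme.{u}} {H G : Over S} [MonObj H] [MonObj G] (w : H ⟶ G)
    (h1 : (1 : 𝟙_ (Over S) ⟶ H) ≫ w = 1)
    (h : ∀ (X : Over S) (a b : X ⟶ H), (a * b) ≫ w = (a ≫ w) * (b ≫ w)) : IsMonHom w where
  one_hom := by
    simpa [CategoryTheory.Hom.one_def, toUnit_unit] using h1
  mul_hom := by
    have h2 := h (H ⊗ H) (fst _ _) (snd _ _)
    simp only [CategoryTheory.Hom.mul_def, lift_fst_snd, Category.id_comp] at h2
    rw [h2, ← lift_fst_comp_snd_comp]

variable {k : Type u} [Field k] [IsAlgClosed k] {r : ℕ}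

/-- The exponent of the coordinate in the character of a one-parameter subgroup. -/
def cochar (v : Fin r → ℤ) : Red.Gm (base k) ⟶ Magnet.AMonS (base k) (Fin r → ℤ) :=
  GrpSch.monPt
    { toFun := fun x => ((GmPts.unitOfPt (𝟙 (Red.Gm (base k))) ^ (∑ i, v i * x.toAdd i) : Γ((Red.Gm (base k)).left, ⊤)ˣ) : Γ((Red.Gm (base k)).left, ⊤))
      map_one' := by simp
      map_mul' := fun x y => by
        rw [← Units.val_mul, ← zpow_add, ← Finset.sum_add_distrib]
        congr 3
        funext i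
        simp [mul_add] }

omit [IsAlgClosed k] in
theorem monFn_cochar (v m : Fin r → ℤ) :
    GrpSch.monFn (cochar (k := k) v) m =
      ((GmPts.unitOfPt (𝟙 (Red.Gm (base k))) ^ (∑ i, v i * m i) : Γ((Red.Gm (base k)).left, ⊤)ˣ) : Γ((Red.Gm (base k)).left, ⊤)) := by
  rw [cochar, GrpSch.monFn_monPt]
  rfl

omit [IsAlgClosed k] in
theorem monFn_comp_cochar {Y : Over (base k)} (x : Y ⟶ Red.Gm (base k)) (v m : Fin r → ℤ) :
    GrpSch.monFn (x ≫ cochar v) m = ((GmPts.unitOfPt x ^ (∑ i, v i * m i) : Γ(Y.left, ⊤)ˣ) : Γ(Y.left, ⊤)) := by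
  rw [GrpSch.monFn_comp, monFn_cochar, ← Category.comp_id x, GmPts.unitOfPt_comp, ← map_zpow, Units.coe_map]
  simp

omit [IsAlgClosed k] in
instance isMonHom_cochar (v : Fin r → ℤ) : IsMonHom (cochar (k := k) v) :=
  isMonHom_of_mul _ (GrpSch.monFn_ext fun m => by
    rw [GrpSch.monFn_one, monFn_comp_cochar, GmPts.unitOfPt_one, one_zpow, Units.val_one])
    fun Y x y => GrpSch.monFn_ext fun m => by
    rw [GrpSch.monFn_mul, monFn_comp_cochar, monFn_comp_cochar, monFn_comp_cochar, GmPts.unitOfPt_mul x y, mul_zpow,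
      Units.val_mul]

omit [IsAlgClosed k] in
theorem cochar_add (v w : Fin r → ℤ) : cochar (k := k) (v + w) = cochar v * cochar w :=
  GrpSch.monFn_ext fun m => by
    rw [GrpSch.monFn_mul, monFn_cochar, monFn_cochar, monFn_cochar, ← Units.val_mul, ← zpow_add,
      ← Finset.sum_add_distrib]
    simp [add_mul]

omit [IsAlgClosed k] in
theorem qf_cochar (v m : Fin r → ℤ) : qf (cochar (k := k) v) m = T (∑ i, v i * m i) := by
  rw [qf, monFn_comp_cochar, unitOfPt_η₁, ← map_zpow, Units.coe_map]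
  exact (fn_fnInv _ _).trans (val_tUnit_zpow _)

omit [IsAlgClosed k] in
theorem cochar_ne_one {v : Fin r → ℤ} (hv : v ≠ 0) : cochar (k := k) v ≠ 1 := fun h => hv (funext fun i => by
  have h1 : qf (1 : Red.Gm (base k) ⟶ Magnet.AMonS (base k) (Fin r → ℤ)) (Pi.single i 1) = T 0 := by
    rw [qf, MonObj.comp_one, GrpSch.monFn_one, map_one, T_zero]
  rw [← h, qf_cochar] at h1
  simpa [Pi.single_apply] using T_injective h1)

/-- A one-parameter subgroup of a standard torus is given by its exponents. -/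
theorem eq_cochar (l : Red.Gm (base k) ⟶ Magnet.AMonS (base k) (Fin r → ℤ)) [IsMonHom l] :
    l = cochar fun i => dg l (Pi.single i 1) := by
  have h : η₁ ≫ l = η₁ ≫ cochar (k := k) fun i => dg l (Pi.single i 1) := by
    refine GrpSch.monFn_ext fun m => ?_
    refine (Function.LeftInverse.injective (g := fnInv (k := k) k[T;T⁻¹]) (fnInv_fn _)) ?_
    change qf l m = qf _ m
    rw [qf_eq_T, qf_cochar]
    congr 1
    let f : (Fin r → ℤ) →+ ℤ := AddMonoidHom.mk' (dg l) (dg_add l)
    change f m = ∑ i, f (Pi.single i 1) * m i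
    conv_lhs => rw [pi_eq_sum_univ' m]
    rw [map_sum]
    refine Finset.sum_congr rfl fun i _ => ?_
    rw [map_zsmul, smul_eq_mul, mul_comm]
  haveI : Epi (η₁ (k := k)) := ⟨fun f g hfg => by
    rw [← Category.id_comp f, ← Category.id_comp g, ← σG_η₁ (𝟙 (Red.Gm (base k))), Category.assoc, Category.assoc,
      hfg]⟩
  exact (cancel_epi η₁).1 h

/-- An additive functional on one-parameter subgroups is bounded by a positive form. -/
theorem exists_bound {T₀ : Over (base k)} [GrpObj T₀] (hT : Red.IsTorus T₀)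
    (b : (Red.Gm (base k) ⟶ T₀) → (Red.Gm (base k) ⟶ T₀) → ℚ)
    (hb_add : ∀ (l₁ l₂ l₃ : Red.Gm (base k) ⟶ T₀) [IsMonHom l₁] [IsMonHom l₂] [IsMonHom l₃],
      b (l₁ * l₂) l₃ = b l₁ l₃ + b l₂ l₃)
    (hb_symm : ∀ (l₁ l₂ : Red.Gm (base k) ⟶ T₀) [IsMonHom l₁] [IsMonHom l₂], b l₁ l₂ = b l₂ l₁)
    (hb_pos : ∀ (l : Red.Gm (base k) ⟶ T₀) [IsMonHom l], l ≠ 1 → 0 < b l l)
    (φ : (Red.Gm (base k) ⟶ T₀) → ℚ)
    (hφ : ∀ (l₁ l₂ : Red.Gm (base k) ⟶ T₀) [IsMonHom l₁] [IsMonHom l₂], φ (l₁ * l₂) = φ l₁ + φ l₂) :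
    ∃ C : ℚ, 0 ≤ C ∧ ∀ (l : Red.Gm (base k) ⟶ T₀) [IsMonHom l], φ l ^ 2 ≤ C * b l l := by
  obtain ⟨r, e, he⟩ := exists_split T₀ hT
  haveI := he
  haveI : IsMonHom e.inv := inferInstance
  let L : (Fin r → ℤ) → (Red.Gm (base k) ⟶ T₀) := fun v => cochar v ≫ e.inv
  have hL : ∀ v, IsMonHom (L v) := fun v => inferInstanceAs (IsMonHom (cochar v ≫ e.inv))
  have hLadd : ∀ v w, L (v + w) = L v * L w := fun v w => by
    simp only [L]; rw [cochar_add, MonObj.mul_comp]
  let f : (Fin r → ℤ) →+ ℚ := AddMonoidHom.mk' (fun v => φ (L v)) fun v w => by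
    haveI := hL v; haveI := hL w
    rw [hLadd, hφ]
  obtain ⟨C, hC, hCv⟩ := exists_sq_le (fun v w => b (L v) (L w))
    (fun u v w => by haveI := hL u; haveI := hL v; haveI := hL w; rw [hLadd, hb_add])
    (fun v w => by haveI := hL v; haveI := hL w; exact hb_symm _ _)
    (fun v hv => by
      haveI := hL v
      refine hb_pos _ fun h => cochar_ne_one (k := k) hv ?_
      rw [← cancel_mono e.inv, MonObj.one_comp]
      exact h)
    (fun i => f (Pi.single i 1))
  refine ⟨C, hC, fun l _ => ?_⟩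
  have hl : l = L fun i => dg (l ≫ e.hom) (Pi.single i 1) := by
    simp only [L]
    rw [← eq_cochar (l ≫ e.hom), Category.assoc, e.hom_inv_id, Category.comp_id]
  have h := hCv fun i => dg (l ≫ e.hom) (Pi.single i 1)
  generalize hv : (fun i => dg (l ≫ e.hom) (Pi.single i 1)) = v at h hl
  have hf : φ l = ∑ i, f (Pi.single i 1) * (v i : ℚ) := by
    rw [hl]
    change f v = _
    conv_lhs => rw [pi_eq_sum_univ' v]
    rw [map_sum]
    refine Finset.sum_congr rfl fun i _ => ?_
    rw [map_zsmul, zsmul_eq_mul, mul_comm]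
  rw [hf]
  rw [hl]
  simp only [congrFun hv] at h
  exact h

end

end Groth.Agent.H60.MuTorus
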