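import Groth.Agent.H60.MuTorus.Models
import Groth.Agent.H60.MuTranslate

/-!
Coordinates of rational points of the total space of a line bundle.
-/

set_option autoImplicit false
set_option backward.isDefEq.respectTransparency false
set_option backward.isDefEq.respectTransparency.types false

universe u

open CategoryTheory CategoryTheory.Limits AlgebraicGeometry MonoidalCategory CartesianMonoidalCategory
open MonObj Opposite Groth.Agent.Lib TopologicalSpace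

namespace Groth.Agent.H60.MuTorus

noncomputable section

variable {k : Type u} [Field k] {G X : Over (base k)} [GrpObj G] {a : AlgGrp.Action G X}
  (B : GLinSh.LinBun G a)

/-- Rational points. -/
abbrev Pt {k : Type u} [Field k] (X : Over (base k)) : Type u := 𝟙_ (Over (base k)) ⟶ X

/-- The point of the space underlying a rational point. -/
def pnt {k : Type u} [Field k] {X : Over (base k)} (x : Pt X) : X.left := x.left (IsLocalRing.closedPoint k)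

theorem preimage_eq_top {Y : Over (base k)} {y : Pt Y} {U : Y.left.Opens} (h : pnt y ∈ U) :
    y.left ⁻¹ᵁ U = ⊤ := by
  refine top_le_iff.1 fun q _ ↦ ?_
  have hsub : Subsingleton ↥(Spec (CommRingCat.of k)) := inferInstanceAs (Subsingleton (PrimeSpectrum k))
  rw [show q = IsLocalRing.closedPoint k from hsub.elim (α := ↥(Spec (CommRingCat.of k))) _ _]
  exact h

open scoped Classical in
/-- The value of a function at a rational point. -/
def vl {Y : Over (base k)} {U : Y.left.Opens} (c : Γ(Y.left, U)) (z : Pt Y) : k :=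
  if h : ⊤ ≤ z.left ⁻¹ᵁ U then ev (z.left.appLE U ⊤ h c) else 0

theorem vl_eq {Y : Over (base k)} {U : Y.left.Opens} (c : Γ(Y.left, U)) (z : Pt Y) (h : ⊤ ≤ z.left ⁻¹ᵁ U) :
    vl c z = ev (z.left.appLE U ⊤ h c) := by rw [vl, dif_pos h]

/-- The value of a global function at a rational point. -/
def vG {Y : Over (base k)} (f : Γ(Y.left, ⊤)) (v : Pt Y) : k := ev (v.left.appTop f)

/-- The coordinate of a rational point of the total space. -/
def co {U : X.left.Opens} (y : Γ(B.V.left, B.π.left ⁻¹ᵁ U)) (v : Pt B.V) : k := vl y v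

theorem co_eq {U : X.left.Opens} (y : Γ(B.V.left, B.π.left ⁻¹ᵁ U)) (v : Pt B.V)
    (h : ⊤ ≤ v.left ⁻¹ᵁ (B.π.left ⁻¹ᵁ U)) : co B y v = ev (HMNum.evalFn B.π y v h) := vl_eq y v h

/-- Homogeneity of degree `n` on rational points. -/
def Homog (n : ℕ) (f : Γ(B.V.left, ⊤)) : Prop :=
  ∀ (U : X.left.Opens) (y : Γ(B.V.left, B.π.left ⁻¹ᵁ U)), y ∈ B.atlas.chart U →
    ∀ (v v' : Pt B.V) (r : k), v' ≫ B.π = v ≫ B.π → pnt (v ≫ B.π) ∈ U →
      co B y v' = r * co B y v → vG f v' = r ^ n * vG f v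

/-- Some point of the fibre has non-zero value. -/
def Nz (f : Γ(B.V.left, ⊤)) (z : Pt X) : Prop := ∃ v : Pt B.V, v ≫ B.π = z ∧ vG f v ≠ 0

theorem exists_chart (z : Pt X) :
    ∃ (U : X.left.Opens) (y : Γ(B.V.left, B.π.left ⁻¹ᵁ U)), y ∈ B.atlas.chart U ∧ pnt z ∈ U := by
  obtain ⟨U, hzU, y, hy⟩ := B.atlas.cover (pnt z)
  exact ⟨U, y, hy, hzU⟩

/-- Over a small affine open a function is read along a section with coordinate one. -/
theorem exists_section {U : X.left.Opens} {y : Γ(B.V.left, B.π.left ⁻¹ᵁ U)} (hy : y ∈ B.atlas.chart U)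
    (z₀ : Pt X) (hz₀ : pnt z₀ ∈ U) (f : Γ(B.V.left, ⊤)) :
    ∃ (W : X.left.Opens) (c : Γ(X.left, W)), IsAffineOpen W ∧ W ≤ U ∧ pnt z₀ ∈ W ∧
      ∀ z : Pt X, pnt z ∈ W → ∃ v : Pt B.V, v ≫ B.π = z ∧ co B y v = 1 ∧ vG f v = vl c z := by
  obtain ⟨W, hW, hzW, hWU⟩ := exists_isAffineOpen_mem_and_subset hz₀
  have hWU : W ≤ U := hWU
  haveI := B.atlas.affine
  have hV : IsAffineOpen (B.π.left ⁻¹ᵁ W) := hW.preimage B.π.left
  have hb := B.atlas.coord U y hy W hW hWU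
  let e := RingEquiv.ofBijective _ hb
  let ψ : Γ(B.V.left, B.π.left ⁻¹ᵁ W) →+* Γ(X.left, W) := (Polynomial.evalRingHom 1).comp e.symm.toRingHom
  have hψ1 : ψ (GLinSh.res B.π hWU y) = 1 := by
    have : e.symm (GLinSh.res B.π hWU y) = Polynomial.X := by
      rw [RingEquiv.symm_apply_eq]
      exact (Polynomial.eval₂_X _ _).symm
    simp [ψ, this]
  have hψπ : CommRingCat.ofHom ((ψ).comp (B.π.left.app W).hom) = 𝟙 _ := by
    ext r
    have : e.symm ((B.π.left.app W).hom r) = Polynomial.C r := by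
      rw [RingEquiv.symm_apply_eq]
      exact (Polynomial.eval₂_C _ _).symm
    simp [ψ, this]
  let s₀ : (W : Scheme.{u}) ⟶ B.V.left := hW.isoSpec.hom ≫ Spec.map (CommRingCat.ofHom ψ) ≫ hV.fromSpec
  have hs₀ : s₀ ≫ B.π.left = W.ι := by
    simp only [s₀, Category.assoc]
    rw [← IsAffineOpen.SpecMap_appLE_fromSpec B.π.left hW hV le_rfl, ← Spec.map_comp_assoc,
      ← Scheme.Hom.app_eq_appLE]
    rw [show B.π.left.app W ≫ CommRingCat.ofHom ψ = 𝟙 _ from hψπ, Spec.map_id, Category.id_comp,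
      IsAffineOpen.isoSpec_hom_fromSpec]
  refine ⟨W, ψ (GLinSh.resTop B.π W f), hW, hWU, hzW, fun z hz ↦ ?_⟩
  have hzr : Set.range z.left ⊆ Set.range W.ι := by
    rintro _ ⟨q, rfl⟩
    rw [Scheme.Opens.range_ι]
    have hq : q ∈ z.left ⁻¹ᵁ W := by rw [preimage_eq_top hz]; trivial
    exact hq
  let z' := IsOpenImmersion.lift W.ι z.left hzr
  have hz' : z' ≫ W.ι = z.left := IsOpenImmersion.lift_fac _ _ _
  have hvπ : (z' ≫ s₀) ≫ B.π.left = z.left := by rw [Category.assoc, hs₀, hz']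
  let v : Pt B.V := Over.homMk (z' ≫ s₀) (by rw [← Over.w B.π, ← Category.assoc, hvπ, Over.w z])
  have hvπ' : v ≫ B.π = z := Over.OverMorphism.ext hvπ
  have hfs : hV.fromSpec.appLE (B.π.left ⁻¹ᵁ W) ⊤ hV.fromSpec_preimage_self.ge =
      (Scheme.ΓSpecIso Γ(B.V.left, B.π.left ⁻¹ᵁ W)).inv := by
    rw [Scheme.Hom.appLE, IsAffineOpen.fromSpec_app_of_le hV _ le_rfl]
    simp [← Functor.map_comp]
    refine (congrArg (fun t => (Scheme.ΓSpecIso Γ(B.V.left, B.π.left ⁻¹ᵁ W)).inv ≫ t) ?_).trans (Category.comp_id _)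
    exact (congrArg _ (Subsingleton.elim _ _)).trans (CategoryTheory.Functor.map_id _ _)
  have hzW' : ⊤ ≤ z.left ⁻¹ᵁ W := (preimage_eq_top hz).ge
  have hvW : ⊤ ≤ v.left ⁻¹ᵁ (B.π.left ⁻¹ᵁ W) := by
    have h1 : v.left ⁻¹ᵁ (B.π.left ⁻¹ᵁ W) = (v.left ≫ B.π.left) ⁻¹ᵁ W := rfl
    rw [h1, show v.left ≫ B.π.left = z.left from hvπ]
    exact hzW'
  have key : ∀ r : Γ(B.V.left, B.π.left ⁻¹ᵁ W),
      v.left.appLE (B.π.left ⁻¹ᵁ W) ⊤ hvW r = z.left.appLE W ⊤ hzW' (ψ r) := by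
    intro r
    have h1 : v.left = (z' ≫ hW.isoSpec.hom ≫ Spec.map (CommRingCat.ofHom ψ)) ≫ hV.fromSpec := by
      change z' ≫ s₀ = _
      simp [s₀]
    have h2 : z.left.appLE W ⊤ hzW' = W.topIso.inv ≫ z'.appTop := by
      simp only [← hz']
      rw [show z'.appTop = z'.appLE ⊤ ⊤ le_top from Scheme.Hom.app_eq_appLE _, ← Scheme.Hom.appLE_comp_appLE z' W.ι W ⊤ ⊤
        (by rw [Scheme.Opens.ι_preimage_self]) le_top, Scheme.Opens.ι_appLE]
      congr 1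
    simp only [h1]
    rw [← Scheme.Hom.appLE_comp_appLE _ _ _ ⊤ _ hV.fromSpec_preimage_self.ge le_top, hfs, h2,
      show (z' ≫ hW.isoSpec.hom ≫ Spec.map (CommRingCat.ofHom ψ)).appLE ⊤ ⊤ le_top =
        (z' ≫ hW.isoSpec.hom ≫ Spec.map (CommRingCat.ofHom ψ)).appTop from (Scheme.Hom.app_eq_appLE _).symm,
      Scheme.Hom.comp_appTop, Scheme.Hom.comp_appTop, IsAffineOpen.isoSpec_hom_appTop]
    simp only [Category.assoc]
    rw [← Scheme.ΓSpecIso_inv_naturality_assoc]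
    simp
  refine ⟨v, hvπ', ?_, ?_⟩
  · have hvU : ⊤ ≤ v.left ⁻¹ᵁ (B.π.left ⁻¹ᵁ U) :=
      hvW.trans (fun q hq ↦ hWU hq)
    rw [co, vl_eq y v hvU]
    have : v.left.appLE (B.π.left ⁻¹ᵁ U) ⊤ hvU y =
        v.left.appLE (B.π.left ⁻¹ᵁ W) ⊤ hvW (GLinSh.res B.π hWU y) := by
      rw [GLinSh.res, ← ConcreteCategory.comp_apply, Scheme.Hom.map_appLE]
    rw [this, key, hψ1, map_one]
    exact map_one ev
  · rw [vl_eq _ z hzW', ← key, vG, GLinSh.resTop, ← ConcreteCategory.comp_apply, Scheme.Hom.map_appLE,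
      show v.left.appTop = v.left.appLE ⊤ ⊤ le_top from Scheme.Hom.app_eq_appLE _]

theorem exists_point {U : X.left.Opens} {y : Γ(B.V.left, B.π.left ⁻¹ᵁ U)} (hy : y ∈ B.atlas.chart U)
    (z : Pt X) (hz : pnt z ∈ U) : ∃ v : Pt B.V, v ≫ B.π = z ∧ co B y v = 1 := by
  obtain ⟨W, c, -, -, hzW, h⟩ := exists_section B hy z hz 0
  obtain ⟨v, h1, h2, -⟩ := h z hzW
  exact ⟨v, h1, h2⟩

theorem eval_weight {U : X.left.Opens} {y : Γ(B.V.left, B.π.left ⁻¹ᵁ U)} {n : ℕ} {f : Γ(B.V.left, ⊤)}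
    {c : Γ(X.left, U)} (hc : GLinSh.resTop B.π U f = B.π.left.app U c * y ^ n) (v : Pt B.V)
    (hv : pnt (v ≫ B.π) ∈ U) : vG f v = vl c (v ≫ B.π) * co B y v ^ n := by
  have h : ⊤ ≤ v.left ⁻¹ᵁ (B.π.left ⁻¹ᵁ U) := (preimage_eq_top (y := v) (U := B.π.left ⁻¹ᵁ U) hv).ge
  have h' : ⊤ ≤ (v ≫ B.π).left ⁻¹ᵁ U := h
  rw [vG, co, vl_eq _ _ h, vl_eq _ _ h', show v.left.appTop = v.left.appLE ⊤ ⊤ le_top from Scheme.Hom.app_eq_appLE _]
  have h1 : v.left.appLE ⊤ ⊤ le_top f = v.left.appLE (B.π.left ⁻¹ᵁ U) ⊤ h (GLinSh.resTop B.π U f) := by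
    rw [GLinSh.resTop, ← ConcreteCategory.comp_apply, Scheme.Hom.map_appLE]
  have h2 : (v ≫ B.π).left.appLE U ⊤ h' c = v.left.appLE (B.π.left ⁻¹ᵁ U) ⊤ h (B.π.left.app U c) := by
    rw [← ConcreteCategory.comp_apply, Scheme.Hom.app_eq_appLE, Scheme.Hom.appLE_comp_appLE]
    rfl
  rw [h2]
  change ev (v.left.appLE ⊤ ⊤ le_top f) = _
  rw [h1, hc, map_mul, map_pow, map_mul, map_pow]

theorem homog_of_hasWeight {n : ℕ} {f : Γ(B.V.left, ⊤)} (hf : GLinSh.HasWeight B.atlas.chart n f) :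
    Homog B n f := by
  intro U y hy v v' r hvv hU hr
  obtain ⟨c, hc⟩ := hf U y hy
  rw [eval_weight B hc v hU, eval_weight B hc v' (hvv ▸ hU), hr, hvv]
  ring

theorem nz_of_mem_nonvanishing {n : ℕ} {f : Γ(B.V.left, ⊤)} (hf : GLinSh.HasWeight B.atlas.chart n f)
    (z : Pt X) (hz : pnt z ∈ GLinSh.nonvanishing B.π f) : Nz B f z := by
  obtain ⟨U, y, hy, hzU⟩ := exists_chart B z
  obtain ⟨c, hc⟩ := hf U y hy
  obtain ⟨v0, hv0, hv0π⟩ := hz
  obtain ⟨v, hvπ, hv1⟩ := exists_point B hy z hzU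
  refine ⟨v, hvπ, ?_⟩
  rw [eval_weight B hc v (hvπ ▸ hzU), hv1, one_pow, hvπ]
  refine fun h0 => ?_
  simp only [_root_.mul_one] at h0
  revert h0
  have hv0U : v0 ∈ B.π.left ⁻¹ᵁ U := by
    change B.π.left v0 ∈ U
    rw [hv0π]; exact hzU
  have h1 : v0 ∈ B.V.left.basicOpen (GLinSh.resTop B.π U f) := by
    rw [GLinSh.resTop, Scheme.basicOpen_res]
    exact ⟨hv0U, hv0⟩
  rw [hc, Scheme.basicOpen_mul, ← Scheme.preimage_basicOpen] at h1
  have h2 : pnt z ∈ X.left.basicOpen c := hv0π ▸ h1.1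
  have h3 : ⊤ ≤ z.left ⁻¹ᵁ U := (preimage_eq_top hzU).ge
  rw [vl_eq _ _ h3]
  have hu : IsUnit (z.left.appLE U ⊤ h3 c) := by
    have h4 := (X.left.toRingedSpace.isUnit_res_basicOpen c).map
      (z.left.appLE (X.left.basicOpen c) ⊤ (preimage_eq_top h2).ge).hom
    have h5 : X.left.presheaf.map (homOfLE (X.left.basicOpen_le c)).op ≫
        z.left.appLE (X.left.basicOpen c) ⊤ (preimage_eq_top h2).ge = z.left.appLE U ⊤ h3 :=
      Scheme.Hom.map_appLE _ _ _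
    rw [← h5]
    exact h4
  exact (hu.map (ev (k := k))).ne_zero

/-- Moving the fibre by a point of the group multiplies coordinates by a function of the parameter. -/
theorem exists_factor' {T : Over (base k)} (g₀ : T ⟶ G) (x₀ : T ⟶ X) {U U' : X.left.Opens}
    {y : Γ(B.V.left, B.π.left ⁻¹ᵁ U)} {y' : Γ(B.V.left, B.π.left ⁻¹ᵁ U')}
    (hy : y ∈ B.atlas.chart U) (hy' : y' ∈ B.atlas.chart U') (hU : x₀.left ⁻¹ᵁ U = ⊤)
    (hU' : (lift g₀ x₀ ≫ a.act).left ⁻¹ᵁ U' = ⊤) :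
    ∃ C : Γ(T.left, ⊤), ∀ (τ : 𝟙_ (Over (base k)) ⟶ T) (v : Pt B.V), v ≫ B.π = τ ≫ x₀ →
      co B y' (lift (τ ≫ g₀) v ≫ B.lift.act) = ev (τ.left.appTop C) * co B y v := by
  obtain ⟨C, hC⟩ := MuTranslate.exists_factor B g₀ x₀ hy hy' hU hU'
  refine ⟨C, fun τ v hv ↦ ?_⟩
  have hgv : (lift (τ ≫ g₀) v ≫ B.lift.act) ≫ B.π = τ ≫ lift g₀ x₀ ≫ a.act := by
    rw [MuTranslate.lift_π_act, hv, comp_lift_assoc]
  rw [co_eq B y' _ (HMNum.top_le_preimage B.π hU' hgv), co_eq B y _ (HMNum.top_le_preimage B.π hU hv),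
    hC _ τ v hv hgv, map_mul]

end

end Groth.Agent.H60.MuTorus
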