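import Groth.Agent.H60.MuTorus.Line
import Groth.Agent.H60.MuTorus.Laurent
import Mathlib.Algebra.Order.Field.Basic
import Mathlib.Algebra.Polynomial.Degree.Operations

/-!
The numerical function as a maximum over semi-invariant functions.
-/

set_option autoImplicit false
set_option backward.isDefEq.respectTransparency false
set_option backward.isDefEq.respectTransparency.types false

universe u

open CategoryTheory CategoryTheory.Limits AlgebraicGeometry MonoidalCategory CartesianMonoidalCategory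
open MonObj Opposite Groth.Agent.Lib LaurentPolynomial TopologicalSpace

namespace Groth.Agent.H60.MuTorus

noncomputable section

variable {k : Type u} [Field k] [IsAlgClosed k] {G X : Over (base k)} [GrpObj G] {a : AlgGrp.Action G X}
  (B : GLinSh.LinBun G a) {l : Red.Gm (base k) ⟶ G} [IsMonHom l]

/-- A function transformed by the character `u ↦ u ^ p` of the subgroup. -/
def Semi (l : Red.Gm (base k) ⟶ G) (p : ℤ) (f : Γ(B.V.left, ⊤)) : Prop :=
  ∀ (b : kˣ) (v : Pt B.V), vG f (lift (gm b ≫ l) v ≫ B.lift.act) = ((b ^ p : kˣ) : k) * vG f v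

omit [IsAlgClosed k] in
theorem act_π {x : Pt X} {v : Pt B.V} (g : Pt G) (hv : v ≫ B.π = x) :
    (lift g v ≫ B.lift.act) ≫ B.π = lift g x ≫ a.act := by
  rw [MuTranslate.lift_π_act, hv]

omit [IsAlgClosed k] in
theorem gm_one_comp : gm (1 : kˣ) ≫ l = 1 := by rw [gm_one, MonObj.one_comp]

omit [IsAlgClosed k] in
theorem act_one_v (v : Pt B.V) : lift (gm (1 : kˣ) ≫ l) v ≫ B.lift.act = v := by
  rw [gm_one_comp]
  exact GrpSch.act_one B.lift v

/-- At a fixed point the coordinate is multiplied by a Laurent polynomial of the parameter. -/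
theorem exists_multiplier {y : Pt X} (hy : HMNum.IsFixedBy a l y) {U : X.left.Opens}
    {y₀ : Γ(B.V.left, B.π.left ⁻¹ᵁ U)} (hy₀ : y₀ ∈ B.atlas.chart U) (hU : pnt y ∈ U) :
    ∃ C : k[T;T⁻¹],
      (∀ (T' : Over (base k)) (t : T' ⟶ 𝟙_ _) (g : T' ⟶ Red.Gm (base k)) (v : T' ⟶ B.V) (hv : v ≫ B.π = t ≫ y)
        (hgv : (lift (g ≫ l) v ≫ B.lift.act) ≫ B.π = t ≫ y),
        HMNum.evalFn B.π y₀ (lift (g ≫ l) v ≫ B.lift.act) (HMNum.top_le_preimage B.π (preimage_eq_top hU) hgv) =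
          (σG g).left.appTop (fnInv k[T;T⁻¹] C) *
            HMNum.evalFn B.π y₀ v (HMNum.top_le_preimage B.π (preimage_eq_top hU) hv)) ∧
      evalL 1 C = 1 ∧
      ∀ (b : kˣ) (v : Pt B.V), v ≫ B.π = y →
        (lift (gm b ≫ l) v ≫ B.lift.act) ≫ B.π = y ∧
          co B y₀ (lift (gm b ≫ l) v ≫ B.lift.act) = evalL b C * co B y₀ v := by
  have hfix : lift (η₁ ≫ l) (toUnit _ ≫ y) ≫ a.act = toUnit (G₁ k) ≫ y := hy (G₁ k) (toUnit _) η₁
  have hU1 : (toUnit (G₁ k) ≫ y).left ⁻¹ᵁ U = ⊤ := by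
    change (toUnit (G₁ k)).left ⁻¹ᵁ (y.left ⁻¹ᵁ U) = ⊤
    rw [preimage_eq_top hU]
    rfl
  obtain ⟨C, hC⟩ := MuTranslate.exists_factor B (η₁ ≫ l) (toUnit (G₁ k) ≫ y) hy₀ hy₀ hU1 (by rw [hfix, hU1])
  have main : ∀ (T' : Over (base k)) (t : T' ⟶ 𝟙_ _) (g : T' ⟶ Red.Gm (base k)) (v : T' ⟶ B.V)
      (hv : v ≫ B.π = t ≫ y) (hgv : (lift (g ≫ l) v ≫ B.lift.act) ≫ B.π = t ≫ y),
      HMNum.evalFn B.π y₀ (lift (g ≫ l) v ≫ B.lift.act) (HMNum.top_le_preimage B.π (preimage_eq_top hU) hgv) =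
        (σG g).left.appTop (fnInv k[T;T⁻¹] (fn k[T;T⁻¹] C)) *
          HMNum.evalFn B.π y₀ v (HMNum.top_le_preimage B.π (preimage_eq_top hU) hv) := by
    intro T' t g v hv hgv
    rw [fnInv_fn]
    have hv' : v ≫ B.π = σG g ≫ toUnit _ ≫ y := by
      rw [hv, ← Category.assoc (σG g), toUnit_unique (σG g ≫ toUnit _) t]
    have hgv' : (lift (σG g ≫ η₁ ≫ l) v ≫ B.lift.act) ≫ B.π =
        σG g ≫ lift (η₁ ≫ l) (toUnit _ ≫ y) ≫ a.act := by
      rw [MuTranslate.lift_π_act, hv', comp_lift_assoc]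
    have h := hC T' (σG g) v hv' hgv'
    have e : σG g ≫ η₁ ≫ l = g ≫ l := by rw [← Category.assoc, σG_η₁]
    exact (MuTranslate.evalFn_congr B.π y₀ _ _ (by rw [e])).trans h
  have pts : ∀ (b : kˣ) (v : Pt B.V), v ≫ B.π = y →
      (lift (gm b ≫ l) v ≫ B.lift.act) ≫ B.π = y ∧
        co B y₀ (lift (gm b ≫ l) v ≫ B.lift.act) = evalL b (fn k[T;T⁻¹] C) * co B y₀ v := by
    intro b v hv
    have hf : lift (gm b ≫ l) y ≫ a.act = y := by
      have := hy (𝟙_ _) (𝟙 _) (gm b)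
      rwa [Category.id_comp] at this
    have hgv : (lift (gm b ≫ l) v ≫ B.lift.act) ≫ B.π = y := by rw [act_π B _ hv, hf]
    refine ⟨hgv, ?_⟩
    have hv1 : v ≫ B.π = 𝟙 _ ≫ y := by rw [hv, Category.id_comp]
    have hgv1 : (lift (gm b ≫ l) v ≫ B.lift.act) ≫ B.π = 𝟙 _ ≫ y := by rw [hgv, Category.id_comp]
    rw [co_eq B y₀ _ (HMNum.top_le_preimage B.π (preimage_eq_top hU) hgv1),
      co_eq B y₀ _ (HMNum.top_le_preimage B.π (preimage_eq_top hU) hv1), main _ (𝟙 _) (gm b) v hv1 hgv1,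
      map_mul, ev_σG_gm, fn_fnInv]
  refine ⟨fn k[T;T⁻¹] C, main, ?_, pts⟩
  obtain ⟨v₁, hv₁, hco⟩ := exists_point B hy₀ y hU
  have h := (pts 1 v₁ hv₁).2
  rw [act_one_v, hco, _root_.mul_one] at h
  exact h.symm

theorem zpow_injective_of_forall {p q : ℤ} (h : ∀ b : kˣ, (b ^ p : kˣ) = b ^ q) : p = q := by
  have h1 : (T p : k[T;T⁻¹]) = T q := eq_of_eval_eq fun b => by rw [evalL_T, evalL_T, h b]
  have h2 := congrArg LaurentPolynomial.degree h1
  rw [degree_T, degree_T] at h2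
  exact WithBot.coe_injective h2

theorem weight_eq {y : Pt X} {w : ℤ} (hw : HMNum.HasFibreWeight B l y w) {n : ℕ} {p : ℤ}
    {f : Γ(B.V.left, ⊤)} (hh : Homog B n f) (hs : Semi B l p f) (hnz : Nz B f y) : p = n * w := by
  obtain ⟨hfix, U, y₀, hy₀, hU, hwt⟩ := hw
  obtain ⟨v, hv, hne⟩ := hnz
  have hyU : pnt y ∈ U := by
    have : IsLocalRing.closedPoint k ∈ y.left ⁻¹ᵁ U := by rw [hU]; trivial
    exact this
  refine zpow_injective_of_forall (k := k) fun b => Units.ext ?_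
  have hf : lift (gm b ≫ l) y ≫ a.act = y := by
    have := hfix (𝟙_ _) (𝟙 _) (gm b)
    rwa [Category.id_comp] at this
  have hgv : (lift (gm b ≫ l) v ≫ B.lift.act) ≫ B.π = y := by rw [act_π B _ hv, hf]
  have hv1 : v ≫ B.π = 𝟙 _ ≫ y := by rw [hv, Category.id_comp]
  have hgv1 : (lift (gm b ≫ l) v ≫ B.lift.act) ≫ B.π = 𝟙 _ ≫ y := by rw [hgv, Category.id_comp]
  have hco : co B y₀ (lift (gm b ≫ l) v ≫ B.lift.act) = ((b ^ w : kˣ) : k) * co B y₀ v := by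
    rw [co_eq B y₀ _ (HMNum.top_le_preimage B.π hU hgv1), co_eq B y₀ _ (HMNum.top_le_preimage B.π hU hv1),
      hwt _ (𝟙 _) (gm b) v hv1 hgv1, map_mul, ev_zpow (ev_unitOfPt_gm b)]
  have h := hh U y₀ hy₀ v _ _ (hgv.trans hv.symm) (hv ▸ hyU) hco
  rw [hs b v] at h
  rw [mul_right_cancel₀ hne h, mul_comm, zpow_mul, zpow_natCast, Units.val_pow_eq_pow_val]

theorem exists_weight {y : Pt X} (hy : HMNum.IsFixedBy a l y) {n : ℕ} (hn : 1 ≤ n) {p : ℤ}
    {f : Γ(B.V.left, ⊤)} (hh : Homog B n f) (hs : Semi B l p f) (hnz : Nz B f y) :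
    ∃ w : ℤ, HMNum.HasFibreWeight B l y w := by
  obtain ⟨U, y₀, hy₀, hyU⟩ := exists_chart B y
  obtain ⟨C, hC, hC1, hCpt⟩ := exists_multiplier B hy hy₀ hyU
  obtain ⟨v, hv, hne⟩ := hnz
  have hpow : C ^ n = T p := eq_of_eval_eq fun b => by
    obtain ⟨hgv, hco⟩ := hCpt b v hv
    have h := hh U y₀ hy₀ v _ _ (hgv.trans hv.symm) (hv ▸ hyU) hco
    rw [hs b v] at h
    rw [map_pow, evalL_T]
    exact (mul_right_cancel₀ hne h).symm
  obtain ⟨n, rfl⟩ := Nat.exists_eq_add_of_le hn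
  obtain ⟨w, hw⟩ := eq_T_of_mul_eq_one (C := C) (D := C ^ n * T (-p)) (by
    have h' : C ^ (n + 1) = T p := by rw [add_comm]; exact hpow
    rw [← _root_.mul_assoc, ← pow_succ', h', ← T_add, add_neg_cancel, T_zero]) hC1
  refine ⟨w, hy, U, y₀, hy₀, preimage_eq_top hyU, fun T' t g v' hv' hgv' => ?_⟩
  rw [hC T' t g v' hv' hgv', hw, σG, appTop_toMdl, eval₂_T]

theorem nz_of_isLimitPt {x y : Pt X} (hxy : HMNum.IsLimitPt a l x y) {n : ℕ} {p : ℤ}
    {f : Γ(B.V.left, ⊤)} (hs : Semi B l p f) (hh : Homog B n f) (hnz : Nz B f y) : Nz B f x := by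
  classical
  obtain ⟨ψ, hψ, hψ0⟩ := exists_curve hxy
  obtain ⟨U, y₀, hy₀, hyU⟩ := exists_chart B y
  obtain ⟨W, c, -, hWU, hyW, hc⟩ := exists_section B hy₀ y hyU f
  obtain ⟨q, hq0, hqW, hfrac⟩ := exists_fraction ψ (W := W) (by rw [hψ0]; exact hyW)
  obtain ⟨A, e, hA⟩ := hfrac c
  obtain ⟨v0, hv0, hv01, hv0f⟩ := hc y hyW
  obtain ⟨v, hv, hvne⟩ := hnz
  have hc0 : vl c y ≠ 0 := by
    rw [← hv0f]
    intro h0
    refine hvne ?_
    rw [hh U y₀ hy₀ v0 v (co B y₀ v) (hv.trans hv0.symm) (hv0 ▸ hyU) (by rw [hv01, _root_.mul_one]), h0, mul_zero]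
  have hA0 : A.eval 0 ≠ 0 := by
    rw [← hA 0 hq0, hψ0]
    exact mul_ne_zero hc0 (pow_ne_zero _ hq0)
  have hP : Polynomial.X * q * A ≠ 0 := by
    refine mul_ne_zero (mul_ne_zero Polynomial.X_ne_zero ?_) ?_
    · rintro rfl; simp at hq0
    · rintro rfl; simp at hA0
  obtain ⟨r, hr⟩ := Polynomial.exists_eval_ne_zero_of_natDegree_lt_card (Polynomial.X * q * A) hP
    (by
      have : Cardinal.aleph0 ≤ Cardinal.mk k := Cardinal.aleph0_le_mk k
      exact lt_of_lt_of_le (Cardinal.natCast_lt_aleph0) this)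
  simp only [Polynomial.eval_mul, Polynomial.eval_X, mul_ne_zero_iff] at hr
  let b : kˣ := Units.mk0 r hr.1.1
  have hbW := hqW r hr.1.2
  obtain ⟨u, hu, -, huf⟩ := hc _ hbW
  have hcr : vl c (pt (evalP r) ≫ ψ) ≠ 0 := fun h0 => hr.2 (by rw [← hA r hr.1.2, h0, zero_mul])
  refine ⟨lift (gm b ≫ l)⁻¹ u ≫ B.lift.act, ?_, ?_⟩
  · rw [act_π B _ hu, show (pt (evalP r) ≫ ψ) = lift (gm b ≫ l) x ≫ a.act from hψ b, GrpSch.act_inv_act]
  · intro h0
    have h := hs b (lift (gm b ≫ l)⁻¹ u ≫ B.lift.act)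
    rw [GrpSch.act_act_inv, h0, mul_zero, huf] at h
    exact hcr h

theorem exponent_le {x y : Pt X} (hxy : HMNum.IsLimitPt a l x y) {ni nj : ℕ} {pi pj : ℤ}
    {fi fj : Γ(B.V.left, ⊤)} (hhi : Homog B ni fi) (hsi : Semi B l pi fi) (hi : Nz B fi y)
    (hhj : Homog B nj fj) (hsj : Semi B l pj fj) (hj : Nz B fj x) : pi * nj ≤ pj * ni := by
  classical
  by_contra hlt
  push Not at hlt
  obtain ⟨D, hD, hD1⟩ : ∃ D : ℕ, (D : ℤ) = pi * nj - pj * ni ∧ 1 ≤ D :=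
    ⟨(pi * nj - pj * ni).toNat, Int.toNat_of_nonneg (by linarith), by
      have : 0 < (pi * nj - pj * ni).toNat := by
        rw [Int.lt_toNat]; simpa using hlt
      exact this⟩
  obtain ⟨ψ, hψ, hψ0⟩ := exists_curve hxy
  obtain ⟨U, y₀, hy₀, hyU⟩ := exists_chart B y
  obtain ⟨Wi, ci, -, hWiU, hyWi, hci⟩ := exists_section B hy₀ y hyU fi
  obtain ⟨Wj, cj, -, hWjU, hyWj, hcj⟩ := exists_section B hy₀ y hyU fj
  obtain ⟨q, hq0, hqW, hfrac⟩ := exists_fraction ψ (W := Wi ⊓ Wj) (by rw [hψ0]; exact ⟨hyWi, hyWj⟩)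
  obtain ⟨Ai, ei, hAi⟩ := hfrac (X.left.presheaf.map (homOfLE inf_le_left).op ci)
  obtain ⟨Aj, ej, hAj⟩ := hfrac (X.left.presheaf.map (homOfLE inf_le_right).op cj)
  have hres : ∀ {U' U'' : X.left.Opens} (hle : U'' ≤ U') (c : Γ(X.left, U')) (z : Pt X), pnt z ∈ U'' →
      vl (X.left.presheaf.map (homOfLE hle).op c) z = vl c z := fun hle c z hz => by
    rw [vl_eq _ _ (preimage_eq_top hz).ge, vl_eq _ _ (preimage_eq_top (hle hz)).ge,
      ← ConcreteCategory.comp_apply, Scheme.Hom.map_appLE]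
  obtain ⟨vx, hvx, haj⟩ := hj
  have hci0 : vl ci y ≠ 0 := by
    obtain ⟨v0, hv0, hv01, hv0f⟩ := hci y hyWi
    obtain ⟨v, hv, hvne⟩ := hi
    rw [← hv0f]
    intro h0
    refine hvne ?_
    rw [hhi U y₀ hy₀ v0 v (co B y₀ v) (hv.trans hv0.symm) (hv0 ▸ hyU) (by rw [hv01, _root_.mul_one]), h0, mul_zero]
  let P : Polynomial k := Polynomial.C (vG fj vx ^ ni) * Ai ^ nj * q ^ (ej * ni) -
    Polynomial.X ^ D * Polynomial.C (vG fi vx ^ nj) * Aj ^ ni * q ^ (ei * nj)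
  have hP : P = 0 := by
    refine P.eq_zero_of_infinite_isRoot ?_
    have hq : q ≠ 0 := by rintro rfl; simp at hq0
    refine Set.Infinite.mono (s := {r : k | (Polynomial.X * q).eval r ≠ 0}) (fun r hr => ?_) ?_
    · simp only [Set.mem_setOf_eq, Polynomial.eval_mul, Polynomial.eval_X, mul_ne_zero_iff] at hr
      obtain ⟨hr0, hrq⟩ := hr
      let b : kˣ := Units.mk0 r hr0
      have hzW := hqW r hrq
      obtain ⟨ui, hui, hui1, huif⟩ := hci _ hzW.1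
      obtain ⟨uj, huj, huj1, hujf⟩ := hcj _ hzW.2
      let w := lift (gm b ≫ l) vx ≫ B.lift.act
      have hwπ : w ≫ B.π = pt (evalP r) ≫ ψ := (act_π B _ hvx).trans (hψ b).symm
      have e1 := hhi U y₀ hy₀ ui w (co B y₀ w) (hwπ.trans hui.symm) (hui ▸ hWiU hzW.1)
        (by rw [hui1, _root_.mul_one])
      have e2 := hhj U y₀ hy₀ uj w (co B y₀ w) (hwπ.trans huj.symm) (huj ▸ hWjU hzW.2)
        (by rw [huj1, _root_.mul_one])
      rw [show vG fi w = ((b ^ pi : kˣ) : k) * vG fi vx from hsi b vx, huif] at e1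
      rw [show vG fj w = ((b ^ pj : kˣ) : k) * vG fj vx from hsj b vx, hujf] at e2
      have hAi' := hAi r hrq
      have hAj' := hAj r hrq
      rw [hres _ _ _ hzW] at hAi' hAj'
      have hb : ((b ^ pi : kˣ) : k) ^ nj = ((b ^ pj : kˣ) : k) ^ ni * r ^ D := by
        rw [show r = (b : k) from rfl, ← Units.val_pow_eq_pow_val, ← Units.val_pow_eq_pow_val,
          ← Units.val_pow_eq_pow_val, ← Units.val_mul, ← zpow_natCast, ← zpow_natCast, ← zpow_natCast b D,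
          ← zpow_mul, ← zpow_mul, ← zpow_add, hD, add_sub_cancel]
      change P.eval r = 0
      simp only [P, Polynomial.eval_sub, Polynomial.eval_mul, Polynomial.eval_pow, Polynomial.eval_C,
        Polynomial.eval_X]
      refine mul_left_cancel₀ (pow_ne_zero ni (b ^ pj).ne_zero) ?_
      rw [mul_zero, mul_sub, ← hAi', ← hAj', sub_eq_zero]
      linear_combination (vl ci (pt (evalP r) ≫ ψ)) ^ nj * q.eval r ^ (ei * nj + ej * ni) *
          congrArg (· ^ ni) e2 -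
        (vl cj (pt (evalP r) ≫ ψ)) ^ ni * q.eval r ^ (ei * nj + ej * ni) * congrArg (· ^ nj) e1 +
        (vG fi vx) ^ nj * (vl cj (pt (evalP r) ≫ ψ)) ^ ni * q.eval r ^ (ei * nj + ej * ni) * hb
    · have hne : (Polynomial.X * q) ≠ 0 := mul_ne_zero Polynomial.X_ne_zero hq
      have hfin := Polynomial.finite_setOf_isRoot hne
      exact hfin.infinite_compl
  have h0 := congrArg (Polynomial.eval 0) hP
  simp only [P, Polynomial.eval_sub, Polynomial.eval_mul, Polynomial.eval_pow, Polynomial.eval_C,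
    Polynomial.eval_X, Polynomial.eval_zero, zero_pow (Nat.one_le_iff_ne_zero.1 hD1), zero_mul, sub_zero] at h0
  have hAi0 := hAi 0 hq0
  rw [hψ0, hres _ _ _ (show pnt y ∈ Wi ⊓ Wj from ⟨hyWi, hyWj⟩)] at hAi0
  rw [← hAi0] at h0
  exact mul_ne_zero (mul_ne_zero (pow_ne_zero _ haj) (pow_ne_zero _ (mul_ne_zero hci0 (pow_ne_zero _ hq0))))
    (pow_ne_zero _ hq0) h0

/-- The numerical function is the maximum of the normalised exponents. -/
theorem isMu_iff [IsProper X.hom] {J : Type*} (n : J → ℕ) (hn : ∀ j, 1 ≤ n j) (f : J → Γ(B.V.left, ⊤))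
    (p : J → ℤ) (hh : ∀ j, Homog B (n j) (f j)) (hs : ∀ j, Semi B l (p j) (f j))
    (hcov : ∀ z : Pt X, ∃ j, Nz B (f j) z) (x : Pt X) (m : ℤ) :
    HMNum.IsMu B l x m ↔ ∃ j, Nz B (f j) x ∧ (m : ℚ) = -(p j : ℚ) / n j ∧
      ∀ j', Nz B (f j') x → -(p j' : ℚ) / n j' ≤ -(p j : ℚ) / n j := by
  obtain ⟨y, hy⟩ := exists_isLimitPt a l x
  obtain ⟨i, hi⟩ := hcov y
  have hfix := MuLimit.isFixedBy_of_isLimitPt hy
  obtain ⟨w, hw⟩ := exists_weight B hfix (hn i) (hh i) (hs i) hi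
  have hpi : p i = n i * w := weight_eq B hw (hh i) (hs i) hi
  have hpos : ∀ j, (0 : ℚ) < n j := fun j => Nat.cast_pos.2 (hn j)
  have hval : -(p i : ℚ) / n i = ((-w : ℤ) : ℚ) := by
    rw [hpi, div_eq_iff (hpos i).ne']; push_cast; ring
  have hxi : Nz B (f i) x := nz_of_isLimitPt B hy (hs i) (hh i) hi
  have hmax : ∀ j, Nz B (f j) x → -(p j : ℚ) / n j ≤ -(p i : ℚ) / n i := fun j hj => by
    rw [div_le_div_iff₀ (hpos j) (hpos i), neg_mul, neg_mul, neg_le_neg_iff]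
    exact_mod_cast exponent_le B hy (hh i) (hs i) hi (hh j) (hs j) hj
  have hmu : HMNum.IsMu B l x (-w) := ⟨y, hy, by rwa [neg_neg]⟩
  constructor
  · rintro ⟨y', hy', hw'⟩
    obtain rfl := MuLimit.isLimitPt_unique hy hy'
    have h := weight_eq B hw' (hh i) (hs i) hi
    refine ⟨i, hxi, ?_, hmax⟩
    rw [h, eq_div_iff (hpos i).ne']
    push_cast
    ring
  · rintro ⟨j, hj, hm, hjmax⟩
    have h : -(p j : ℚ) / n j = -(p i : ℚ) / n i := le_antisymm (hmax j hj) (hjmax i hxi)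
    rw [h, hval, Int.cast_inj] at hm
    exact hm ▸ hmu

end

end Groth.Agent.H60.MuTorus
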