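import Groth.Agent.H60.MuTorus.Core
import Groth.Agent.Lib.HProj.Main
import Mathlib.AlgebraicGeometry.Morphisms.Flat
import Mathlib.LinearAlgebra.LinearIndependent.Lemmas

/-!
Decomposition of functions on the total space under a diagonalisable subgroup.
-/

set_option autoImplicit false
set_option backward.isDefEq.respectTransparency false
set_option backward.isDefEq.respectTransparency.types false

universe u

open CategoryTheory CategoryTheory.Limits AlgebraicGeometry MonoidalCategory CartesianMonoidalCategory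
open MonObj Opposite Groth.Agent.Lib TopologicalSpace

namespace Groth.Agent.H60.MuTorus

noncomputable section

variable {k : Type u} [Field k] {M : Type} [AddCommGroup M]

/-- The point of the diagonalisable group with given values. -/
def tp (t : Multiplicative M →* k) : Pt (Magnet.AMonS (base k) M) :=
  GrpSch.monPt ((evInv (k := k)).toMonoidHom.comp t)

theorem monFn_tp (t : Multiplicative M →* k) (m : M) :
    GrpSch.monFn (tp t) m = evInv (t (Multiplicative.ofAdd m)) := by
  rw [tp, GrpSch.monFn_monPt]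
  rfl

theorem tp_mul (s t : Multiplicative M →* k) : tp (s * t) = tp s * tp t :=
  GrpSch.monFn_ext fun m => by
    rw [GrpSch.monFn_mul, monFn_tp, monFn_tp, monFn_tp, MonoidHom.mul_apply, map_mul]

theorem tp_one : tp (1 : Multiplicative M →* k) = 1 :=
  GrpSch.monFn_ext fun m => by rw [GrpSch.monFn_one, monFn_tp, MonoidHom.one_apply, map_one]

/-- The universal point on the model. -/
def univ₁ (k : Type u) [Field k] (M : Type) [AddCommGroup M] :
    mdl (k := k) (AddMonoidAlgebra k M) ⟶ Magnet.AMonS (base k) M :=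
  GrpSch.monPt ((fnInv (k := k) (AddMonoidAlgebra k M)).toMonoidHom.comp (AddMonoidAlgebra.of k M))

/-- Evaluation at a character. -/
def evalM (t : Multiplicative M →* k) : AddMonoidAlgebra k M →ₐ[k] k := AddMonoidAlgebra.lift k k M t

theorem pt_univ₁ (t : Multiplicative M →* k) : pt (evalM t) ≫ univ₁ k M = tp t :=
  GrpSch.monFn_ext fun m => ev_injective (by
    rw [GrpSch.monFn_comp, univ₁, GrpSch.monFn_monPt, monFn_tp, ev_evInv, ev_pt]
    change evalM t (fn _ (fnInv _ (AddMonoidAlgebra.of k M (Multiplicative.ofAdd m)))) = _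
    rw [fn_fnInv, evalM, AddMonoidAlgebra.lift_of])

/-- Values of functions at a rational point as a ring map. -/
def vGHom {Y : Over (base k)} (v : Pt Y) : Γ(Y.left, ⊤) →+* k := (ev (k := k)).comp v.left.appTop.hom

theorem vGHom_apply {Y : Over (base k)} (v : Pt Y) (g : Γ(Y.left, ⊤)) : vGHom v g = vG g v := rfl

/-- Formal combinations evaluated at a character and a point. -/
def evalT {Y : Over (base k)} (t : Multiplicative M →* k) (v : Pt Y) :
    AddMonoidAlgebra Γ(Y.left, ⊤) M →+* k :=
  AddMonoidAlgebra.liftNCRingHom (vGHom v) t fun _ _ => Commute.all _ _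

theorem evalT_single {Y : Over (base k)} (t : Multiplicative M →* k) (v : Pt Y) (m : M) (g : Γ(Y.left, ⊤)) :
    evalT t v (AddMonoidAlgebra.single m g) = vG g v * t (Multiplicative.ofAdd m) :=
  AddMonoidAlgebra.liftNC_single _ _ _ _

/-- Functions on the product with the diagonalisable group are combinations of characters. -/
theorem exists_expansion (Y : Over (base k)) [QuasiCompact Y.hom] [QuasiSeparated Y.hom]
    (F : Γ((mdl (k := k) (AddMonoidAlgebra k M) ⊗ Y).left, ⊤)) :
    ∃ φ : AddMonoidAlgebra Γ(Y.left, ⊤) M, ∀ (t : Multiplicative M →* k) (v : Pt Y),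
      vG F (lift (pt (evalM t)) v) = evalT t v φ := by
  let D := mdl (k := k) (AddMonoidAlgebra k M)
  have H := GrpSch.isPullback_left D Y
  haveI : Flat D.hom := by
    change Flat (Spec.map (CommRingCat.ofHom (algebraMap k (AddMonoidAlgebra k M))))
    rw [HasRingHomProperty.Spec_iff (P := @Flat)]
    exact RingHom.flat_algebraMap_iff.2 inferInstance
  haveI : CompactSpace Y.left := QuasiCompact.compactSpace_of_compactSpace Y.hom
  haveI : QuasiSeparatedSpace Y.left := quasiSeparatedSpace_of_quasiSeparated Y.hom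
  have hpo := (isIso_pushoutSection_iff H (US := ⊤) (UT := ⊤) (UX := ⊤) (UY := ⊤) (by simp) (by simp) (by simp)).1
    (isIso_pushoutSection_of_isQuasiSeparated_of_flat_left H (by simp) (by simp) (by simp)
      (isAffineOpen_top _) (isAffineOpen_top (Spec (CommRingCat.of (AddMonoidAlgebra k M))))
      isCompact_univ isQuasiSeparated_univ)
  have hcl := HProj.closure_ranges_of_isPushout hpo
  let Φ : (Multiplicative M →* k) × Pt Y → Γ((D ⊗ Y).left, ⊤) →+* k := fun tv => vGHom (lift (pt (evalM tv.1)) tv.2)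
  let Q : Subring Γ((D ⊗ Y).left, ⊤) :=
    (RingHom.range (Pi.ringHom fun tv : (Multiplicative M →* k) × Pt Y => evalT tv.1 tv.2)).comap
      (Pi.ringHom Φ)
  suffices h : F ∈ Q by
    obtain ⟨φ, hφ⟩ := h
    exact ⟨φ, fun t v => (congrFun hφ (t, v)).symm⟩
  have hF : F ∈ (⊤ : Subring Γ((D ⊗ Y).left, ⊤)) := Subring.mem_top F
  rw [← hcl] at hF
  refine Subring.closure_le.2 ?_ hF
  have hfst : ∀ (tv : (Multiplicative M →* k) × Pt Y) (x : Γ(D.left, ⊤)),
      Φ tv ((fst D Y).left.appLE ⊤ ⊤ le_top x) = evalM tv.1 (fn _ x) := fun tv x => by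
    rw [← show (fst D Y).left.appTop = (fst D Y).left.appLE ⊤ ⊤ le_top from Scheme.Hom.app_eq_appLE _]
    change ev (((lift (pt (evalM tv.1)) tv.2).left.appTop ((fst D Y).left.appTop x))) = _
    rw [← ConcreteCategory.comp_apply, ← Scheme.Hom.comp_appTop, ← Over.comp_left, lift_fst, ev_pt]
  have hsnd : ∀ (tv : (Multiplicative M →* k) × Pt Y) (x : Γ(Y.left, ⊤)),
      Φ tv ((snd D Y).left.appLE ⊤ ⊤ le_top x) = vG x tv.2 := fun tv x => by
    rw [← show (snd D Y).left.appTop = (snd D Y).left.appLE ⊤ ⊤ le_top from Scheme.Hom.app_eq_appLE _]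
    change ev (((lift (pt (evalM tv.1)) tv.2).left.appTop ((snd D Y).left.appTop x))) = _
    rw [← ConcreteCategory.comp_apply, ← Scheme.Hom.comp_appTop, ← Over.comp_left, lift_snd]
    rfl
  rintro z (⟨x, rfl⟩ | ⟨x, rfl⟩)
  · obtain ⟨r, rfl⟩ : ∃ r, fnInv _ r = x := ⟨fn _ x, fnInv_fn _ x⟩
    refine ⟨AddMonoidAlgebra.mapRingHom M (str Y) r, funext fun tv => ?_⟩
    change evalT tv.1 tv.2 _ = Φ tv _
    refine Eq.trans ?_ (hfst tv _).symm
    rw [fn_fnInv]
    induction r using AddMonoidAlgebra.induction_on with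
    | of m =>
      change evalT tv.1 tv.2 (AddMonoidAlgebra.mapRingHom M (str Y) (AddMonoidAlgebra.single m 1)) =
        evalM tv.1 (AddMonoidAlgebra.single m 1)
      rw [AddMonoidAlgebra.mapRingHom_single, evalT_single, map_one, evalM, AddMonoidAlgebra.lift_single, one_smul,
        ← vGHom_apply, map_one, _root_.one_mul]
    | add a b ha hb => simp only [map_add, ha, hb]
    | smul c a ha =>
      rw [Algebra.smul_def, map_mul, map_mul, map_mul, ha]
      congr 1
      change evalT tv.1 tv.2 (AddMonoidAlgebra.mapRingHom M (str Y) (AddMonoidAlgebra.single 0 c)) = _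
      rw [AddMonoidAlgebra.mapRingHom_single, evalT_single, ofAdd_zero, map_one, _root_.mul_one,
        show algebraMap k (AddMonoidAlgebra k M) c = AddMonoidAlgebra.single 0 c from rfl, evalM,
        AddMonoidAlgebra.lift_single, ofAdd_zero, map_one, smul_eq_mul, _root_.mul_one]
      change ev (tv.2.left.appTop (RedPts.Points.ringHomOf Y.hom c)) = c
      rw [← RedPts.Points.ringHomOf_comp, Over.w]
      exact (congrArg ev (RingHom.congr_fun str_one c)).trans (ev_evInv c)
  · refine ⟨AddMonoidAlgebra.single 0 x, funext fun tv => ?_⟩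
    change evalT tv.1 tv.2 _ = Φ tv _
    refine Eq.trans ?_ (hsnd tv x).symm
    rw [evalT_single, ofAdd_zero, map_one, _root_.mul_one]

variable [IsAlgClosed k] {G X : Over (base k)} [GrpObj G] {a : AlgGrp.Action G X} (B : GLinSh.LinBun G a)
  (j : Magnet.AMonS (base k) M ⟶ G) [IsMonHom j]

/-- A function transformed by a character of the diagonalisable subgroup. -/
def SemiT (m : M) (f : Γ(B.V.left, ⊤)) : Prop :=
  ∀ (t : Multiplicative M →* k) (v : Pt B.V),
    vG f (lift (tp t ≫ j) v ≫ B.lift.act) = t (Multiplicative.ofAdd m) * vG f v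

omit [IsAlgClosed k] in
/-- A homogeneous function is a sum of semi-invariant homogeneous functions. -/
theorem exists_components [IsProper X.hom]
    (hsep : ∀ m : M, m ≠ 0 → ∃ t : Multiplicative M →* k, t (Multiplicative.ofAdd m) ≠ 1)
    {n : ℕ} {f : Γ(B.V.left, ⊤)} (hf : Homog B n f) :
    ∃ (s : Finset M) (g : M → Γ(B.V.left, ⊤)), (∀ m, Homog B n (g m) ∧ SemiT B j m (g m)) ∧
      ∀ v : Pt B.V, vG f v = ∑ m ∈ s, vG (g m) v := by
  classical
  haveI := B.atlas.affine
  haveI : QuasiCompact B.V.hom := by rw [← Over.w B.π]; infer_instance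
  haveI : IsSeparated B.V.hom := by rw [← Over.w B.π]; infer_instance
  let D := mdl (k := k) (AddMonoidAlgebra k M)
  let Ψ : D ⊗ B.V ⟶ B.V := lift (fst _ _ ≫ univ₁ k M ≫ j) (snd _ _) ≫ B.lift.act
  obtain ⟨φ, hφ⟩ := exists_expansion B.V (Ψ.left.appTop f)
  let s := φ.coeff.support
  let g : M → Γ(B.V.left, ⊤) := fun m => φ.coeff m
  have hexp : ∀ (t : Multiplicative M →* k) (v : Pt B.V),
      vG f (lift (tp t ≫ j) v ≫ B.lift.act) = ∑ m ∈ s, t (Multiplicative.ofAdd m) * vG (g m) v := by
    intro t v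
    have h1 : lift (pt (evalM t)) v ≫ Ψ = lift (tp t ≫ j) v ≫ B.lift.act := by
      change lift (pt (evalM t)) v ≫ lift (fst _ _ ≫ univ₁ k M ≫ j) (snd _ _) ≫ B.lift.act = _
      rw [comp_lift_assoc, ← Category.assoc (lift _ v) (fst _ _), lift_fst, lift_snd, ← Category.assoc (pt _),
        pt_univ₁]
    have h2 : vG f (lift (tp t ≫ j) v ≫ B.lift.act) = vG (Ψ.left.appTop f) (lift (pt (evalM t)) v) := by
      rw [← h1, vG, vG, Over.comp_left, Scheme.Hom.comp_appTop]
      rfl
    rw [h2, hφ]
    conv_lhs => rw [← AddMonoidAlgebra.sum_coeff_single φ]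
    rw [map_finsuppSum, Finsupp.sum]
    refine Finset.sum_congr rfl fun m _ => ?_
    rw [evalT_single, mul_comm]
  let χ : M → ((Multiplicative M →* k) →* k) := fun m =>
    { toFun := fun t => t (Multiplicative.ofAdd m), map_one' := rfl, map_mul' := fun _ _ => rfl }
  have hχ : Function.Injective χ := by
    intro m m' h
    by_contra hne
    obtain ⟨t, ht⟩ := hsep (m - m') (sub_ne_zero.2 hne)
    have h' : t (Multiplicative.ofAdd m) = t (Multiplicative.ofAdd m') := DFunLike.congr_fun h t
    have hu : t (Multiplicative.ofAdd m') ≠ 0 := fun h0 => by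
      have := congrArg t (mul_inv_cancel (Multiplicative.ofAdd m'))
      rw [map_mul, h0, zero_mul, map_one] at this
      exact zero_ne_one this
    refine ht (mul_right_cancel₀ hu ?_)
    rw [← map_mul, ← ofAdd_add, sub_add_cancel, h', _root_.one_mul]
  have hli : ∀ c : M → k, (∀ t : Multiplicative M →* k, ∑ m ∈ s, c m * t (Multiplicative.ofAdd m) = 0) →
      ∀ m, m ∈ s → c m = 0 := by
    intro c hc
    refine linearIndependent_iff'.1 ((linearIndependent_monoidHom (Multiplicative M →* k) k).comp χ hχ) s c ?_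
    funext t
    simpa [χ, Finset.sum_apply] using hc t
  have hzero : ∀ m, m ∉ s → g m = 0 := fun m hm => Finsupp.notMem_support_iff.1 hm
  have hz : ∀ v : Pt B.V, vG (0 : Γ(B.V.left, ⊤)) v = 0 := fun v => map_zero (vGHom v)
  refine ⟨s, g, fun m => ⟨?_, ?_⟩, fun v => ?_⟩
  · intro U y hy v v' r hvv hvU hr
    by_cases hm : m ∈ s
    swap
    · rw [hzero m hm, hz, hz, mul_zero]
    refine sub_eq_zero.1 (hli (fun m => vG (g m) v' - r ^ n * vG (g m) v) (fun t => ?_) m hm)
    have key : vG f (lift (tp t ≫ j) v' ≫ B.lift.act) = r ^ n * vG f (lift (tp t ≫ j) v ≫ B.lift.act) := by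
      obtain ⟨U', y', hy', hU'⟩ := exists_chart B (lift (tp t ≫ j) (v ≫ B.π) ≫ a.act)
      obtain ⟨C, hC⟩ := exists_factor' B (tp t ≫ j) (v ≫ B.π) hy hy' (preimage_eq_top hvU) (preimage_eq_top hU')
      have e1 := hC (𝟙 _) v (by rw [Category.id_comp])
      have e2 := hC (𝟙 _) v' (by rw [Category.id_comp, hvv])
      simp only [Category.id_comp] at e1 e2
      refine hf U' y' hy' _ _ r ?_ ?_ ?_
      · rw [MuTranslate.lift_π_act, MuTranslate.lift_π_act, hvv]
      · rw [MuTranslate.lift_π_act]; exact hU'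
      · rw [e1, e2, hr]; ring
    rw [hexp, hexp, Finset.mul_sum, ← sub_eq_zero, ← Finset.sum_sub_distrib] at key
    rw [← key]
    exact Finset.sum_congr rfl fun i _ => by ring
  · intro t v
    by_cases hm : m ∈ s
    swap
    · rw [hzero m hm, hz, hz, mul_zero]
    refine sub_eq_zero.1 (hli (fun m => vG (g m) (lift (tp t ≫ j) v ≫ B.lift.act) -
      t (Multiplicative.ofAdd m) * vG (g m) v) (fun t' => ?_) m hm)
    have key := hexp t' (lift (tp t ≫ j) v ≫ B.lift.act)
    rw [← GrpSch.act_mul, ← MonObj.mul_comp, ← tp_mul, hexp, ← sub_eq_zero, ← Finset.sum_sub_distrib] at key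
    rw [← neg_eq_zero, ← Finset.sum_neg_distrib, ← key]
    exact Finset.sum_congr rfl fun i _ => by rw [MonoidHom.mul_apply]; ring
  · have h1 := hexp 1 v
    rw [tp_one, MonObj.one_comp, GrpSch.act_one] at h1
    simpa using h1

/-- Finitely many semi-invariant homogeneous functions of positive degree without common zero. -/
theorem exists_family [IsProper X.hom]
    (hsep : ∀ m : M, m ≠ 0 → ∃ t : Multiplicative M →* k, t (Multiplicative.ofAdd m) ≠ 1)
    (hB : HMNum.AmpleCover B) :
    ∃ (N : ℕ) (n : Fin N → ℕ) (f : Fin N → Γ(B.V.left, ⊤)) (m : Fin N → M),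
      (∀ i, 1 ≤ n i ∧ Homog B (n i) (f i) ∧ SemiT B j (m i) (f i)) ∧ ∀ z : Pt X, ∃ i, Nz B (f i) z := by
  classical
  obtain ⟨hc, hcov⟩ := hB
  choose n f hn hw hx U hU hUaff using hcov
  obtain ⟨T, hT⟩ := isCompact_univ.elim_finite_subcover (fun x => (U x : Set X.left)) (fun x => (U x).2)
    (fun x _ => Set.mem_iUnion.2 ⟨x, by rw [hU]; exact hx x⟩)
  have hcomp := fun x : X.left => exists_components B j hsep (homog_of_hasWeight B (hw x))
  choose s g hg hsum using hcomp
  let I := Σ x : T, (s x.1)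
  let e : I ≃ Fin (Fintype.card I) := Fintype.equivFin I
  refine ⟨Fintype.card I, fun i => n (e.symm i).1.1, fun i => g (e.symm i).1.1 (e.symm i).2.1,
    fun i => (e.symm i).2.1, fun i => ⟨hn _, (hg _ _).1, (hg _ _).2⟩, fun z => ?_⟩
  obtain ⟨x, hxT, hzx⟩ := Set.mem_iUnion₂.1 (hT (Set.mem_univ (pnt z)))
  obtain ⟨v, hv, hvne⟩ := nz_of_mem_nonvanishing B (hw x) z (by rw [← hU]; exact hzx)
  rw [hsum x v] at hvne
  obtain ⟨m, hm, hne⟩ := Finset.exists_ne_zero_of_sum_ne_zero hvne
  refine ⟨e ⟨⟨x, hxT⟩, ⟨m, hm⟩⟩, v, hv, ?_⟩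
  simp only
  rw [e.symm_apply_apply]
  exact hne

end

end Groth.Agent.H60.MuTorus
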