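import Groth.Agent.H60.MuTorus.Coord
import Groth.Agent.H60.MuLimit
import Groth.Agent.Lib.GrpSch.AttrOpen
import Mathlib.RingTheory.KrullDimension.Polynomial
import Mathlib.RingTheory.Ideal.KrullsHeightTheorem

/-!
Orbits of rational points under one-parameter subgroups, read on the affine line.
-/

set_option autoImplicit false
set_option backward.isDefEq.respectTransparency false
set_option backward.isDefEq.respectTransparency.types false

universe u

open CategoryTheory CategoryTheory.Limits AlgebraicGeometry MonoidalCategory CartesianMonoidalCategory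
open MonObj Opposite Groth.Agent.Lib LaurentPolynomial TopologicalSpace Groth.Agent.Lib.RedPts

namespace Groth.Agent.H60.MuTorus

noncomputable section

variable {k : Type u} [Field k]

/-- Evaluation of polynomials. -/
abbrev evalP (r : k) : Polynomial k →ₐ[k] k := Polynomial.aeval r

/-- The model line mapped to the monoid scheme. -/
def γ₁ : A₁ k ⟶ HMNum.A1 (base k) :=
  (GrpSch.exists_line_point (S := base k) (T := A₁ k) (fnInv (Polynomial k) Polynomial.X)).choose

theorem monFn_γ₁ : GrpSch.monFn (γ₁ (k := k)) GrpSch.lineGen = fnInv (Polynomial k) Polynomial.X :=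
  (GrpSch.exists_line_point (S := base k) (T := A₁ k) (fnInv (Polynomial k) Polynomial.X)).choose_spec

/-- The monoid scheme mapped to the model line. -/
def θ₁ : HMNum.A1 (base k) ⟶ A₁ k :=
  toMdl (Polynomial.eval₂RingHom (str _) (GrpSch.monFn (𝟙 (HMNum.A1 (base k))) GrpSch.lineGen)) (by
    ext r; simp)

/-- The inclusion of the punctured line. -/
def ι₁ : G₁ k ⟶ A₁ k := mdlMap Polynomial.toLaurentAlg

theorem monFn_gm_one {T : Over (base k)} (g : T ⟶ Red.Gm (base k)) :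
    GrpSch.monFn g (1 : ℤ) = (GmPts.unitOfPt g : Γ(T.left, ⊤)) := rfl

theorem incl_θ₁ {T : Over (base k)} (g : T ⟶ Red.Gm (base k)) :
    g ≫ HMNum.incl (base k) ≫ θ₁ = σG g ≫ ι₁ := by
  refine ext_mdl fun r => ?_
  have hl : (σG g ≫ ι₁).left.appTop (fnInv (Polynomial k) r) =
      LaurentPolynomial.eval₂ (str T) (GmPts.unitOfPt g) (Polynomial.toLaurent r) := by
    rw [Over.comp_left, Scheme.Hom.comp_appTop, ConcreteCategory.comp_apply]
    have h1 : (ι₁ (k := k)).left.appTop (fnInv (Polynomial k) r) =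
        fnInv k[T;T⁻¹] (Polynomial.toLaurent r) := by
      rw [← fnInv_fn k[T;T⁻¹] ((ι₁ (k := k)).left.appTop _), ι₁, fn_mdlMap, fn_fnInv]
      rfl
    rw [h1, σG, appTop_toMdl]
  have hr : (g ≫ HMNum.incl (base k) ≫ θ₁).left.appTop (fnInv (Polynomial k) r) =
      (g ≫ HMNum.incl (base k)).left.appTop
        (Polynomial.eval₂ (str _) (GrpSch.monFn (𝟙 (HMNum.A1 (base k))) GrpSch.lineGen) r) := by
    rw [← Category.assoc, Over.comp_left, Scheme.Hom.comp_appTop, ConcreteCategory.comp_apply, θ₁, appTop_toMdl]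
    rfl
  rw [hl, hr, eval₂_toLaurent, Polynomial.hom_eval₂, ← GrpSch.monFn_comp, Category.comp_id,
    GrpSch.monFn_map]
  congr 1
  ext c
  change (g ≫ HMNum.incl (base k)).left.appTop (Points.ringHomOf _ c) = Points.ringHomOf _ c
  rw [← Points.ringHomOf_comp, Over.w]

theorem pt_γ₁ (a : kˣ) : pt (evalP (a : k)) ≫ γ₁ = gm a ≫ HMNum.incl (base k) := by
  refine GrpSch.monFn_line_ext (ev_injective ?_)
  rw [GrpSch.monFn_comp, monFn_γ₁, GrpSch.monFn_map]
  rw [ev_pt, fn_fnInv]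
  change _ = ev (GrpSch.monFn (gm a) (1 : ℤ))
  rw [monFn_gm_one, ev_unitOfPt_gm]
  simp

theorem pt_γ₁_zero : pt (evalP (0 : k)) ≫ γ₁ = HMNum.origin (base k) := by
  classical
  refine GrpSch.monFn_line_ext (ev_injective ?_)
  rw [GrpSch.monFn_comp, monFn_γ₁, ev_pt, fn_fnInv, HMNum.origin, GrpSch.AttrOpen.monFn_faceMap, dif_neg]
  · simp
  · rw [AddSubmonoid.mem_bot]; exact one_ne_zero

variable {G X : Over (base k)} [GrpObj G]

/-- The orbit map on the punctured model line. -/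
def orbit₁ (a : AlgGrp.Action G X) (l : Red.Gm (base k) ⟶ G) (x : Pt X) : G₁ k ⟶ X :=
  lift (η₁ ≫ l) (toUnit _ ≫ x) ≫ a.act

theorem isOpenImmersion_ι₁ : IsOpenImmersion (ι₁ (k := k)).left := by
  letI : Algebra (Polynomial k) k[T;T⁻¹] := (Polynomial.toLaurent (R := k)).toAlgebra
  haveI : IsLocalization.Away (Polynomial.X : Polynomial k) k[T;T⁻¹] := LaurentPolynomial.isLocalization
  exact IsOpenImmersion.of_isLocalization (R := CommRingCat.of (Polynomial k)) (S := k[T;T⁻¹]) Polynomial.X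

theorem exists_isLimitPt [IsProper X.hom] (a : AlgGrp.Action G X) (l : Red.Gm (base k) ⟶ G) [IsMonHom l]
    (x : Pt X) : ∃ y : Pt X, HMNum.IsLimitPt a l x y := by
  haveI := isOpenImmersion_ι₁ (k := k)
  let Y : Scheme.{u} := (A₁ k).left
  haveI : IsLocallyNoetherian Y :=
    inferInstanceAs (IsLocallyNoetherian (Spec (CommRingCat.of (Polynomial k))))
  haveI : IsIntegral Y := inferInstanceAs (IsIntegral (Spec (CommRingCat.of (Polynomial k))))
  have hdim : ∀ y : Y, ringKrullDim (Y.presheaf.stalk y) ≤ 1 ∧ IsRegularLocalRing (Y.presheaf.stalk y) := by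
    intro y
    let R := CommRingCat.of (Polynomial k)
    let p : PrimeSpectrum (Polynomial k) := y
    have e : Y.presheaf.stalk y ≃+* Localization.AtPrime p.asIdeal :=
      (StructureSheaf.stalkIso (Polynomial k) p).symm.toRingEquiv
    haveI : IsRegularLocalRing (Localization.AtPrime p.asIdeal) :=
      IsRegularRing.isRegularLocalRing_localization p.asIdeal
    refine ⟨?_, IsRegularLocalRing.of_ringEquiv e.symm⟩
    rw [ringKrullDim_eq_of_ringEquiv e,
      IsLocalization.AtPrime.ringKrullDim_eq_height p.asIdeal (Localization.AtPrime p.asIdeal)]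
    refine (Ideal.height_le_ringKrullDim_of_ne_top (I := p.asIdeal) p.isPrime.ne_top).trans ?_
    rw [Polynomial.ringKrullDim_of_isNoetherianRing, ringKrullDim_eq_zero_of_field, zero_add]
  let V : Y.Opens := (ι₁ (k := k)).left.opensRange
  have hne : (V : Set Y).Nonempty := by
    haveI : Nonempty ↥(G₁ k).left := inferInstanceAs (Nonempty (PrimeSpectrum k[T;T⁻¹]))
    exact Set.range_nonempty _
  let ω : (V : Scheme.{u}) ⟶ X.left := (ι₁ (k := k)).left.isoOpensRange.inv ≫ (orbit₁ a l x).left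
  have hω : ω ≫ X.hom = V.ι ≫ (A₁ k).hom := by
    rw [show V.ι = (ι₁ (k := k)).left.isoOpensRange.inv ≫ (ι₁ (k := k)).left by
      rw [Iso.eq_inv_comp, Scheme.Hom.isoOpensRange_hom_ι]]
    simp only [ω, Category.assoc, Over.w]
  let P := pullback X.hom (A₁ k).hom
  let s : (V : Scheme.{u}) ⟶ P := pullback.lift ω V.ι hω
  haveI : IsSeparated (pullback.snd X.hom (A₁ k).hom) := inferInstance
  obtain ⟨U, hVU, s', hs', hext, hU⟩ := Groth.Agent.H4.RatExt.exists_ext (fun y _ => (hdim y).2)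
    (pullback.snd X.hom (A₁ k).hom) (pullback.snd X.hom (A₁ k).hom).isClosedMap V (V.2.dense hne) s
    (pullback.lift_snd _ _ _)
  obtain rfl : U = ⊤ := top_le_iff.1 fun y _ => hU y (hdim y).1
  let φ' : A₁ k ⟶ X := Over.homMk (Y.topIso.inv ≫ s' ≫ pullback.fst _ _) (by
    simp only [Category.assoc]
    rw [pullback.condition, reassoc_of% hs']
    exact Y.topIso.inv_hom_id_assoc _)
  have hφ' : ι₁ ≫ φ' = orbit₁ a l x := by
    apply Over.OverMorphism.ext
    have h1 : (ι₁ (k := k)).left ≫ Y.topIso.inv =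
        (ι₁ (k := k)).left.isoOpensRange.hom ≫ Y.homOfLE hVU := by
      rw [← cancel_mono Y.topIso.hom, Category.assoc, Iso.inv_hom_id, Category.comp_id, Category.assoc]
      change _ = _ ≫ Y.homOfLE hVU ≫ (⊤ : Y.Opens).ι
      rw [Scheme.homOfLE_ι, Scheme.Hom.isoOpensRange_hom_ι]
    change (ι₁ (k := k)).left ≫ Y.topIso.inv ≫ s' ≫ pullback.fst _ _ = _
    rw [reassoc_of% h1, reassoc_of% hext, pullback.lift_fst, Iso.hom_inv_id_assoc]
  have hfac : GrpSch.AttrAffine.OrbitFactors (HMNum.gmAct a l) HMNum.plus x := by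
    refine ⟨fst _ _ ≫ θ₁ ≫ φ', ?_⟩
    rw [whiskerRight_fst_assoc]
    refine Magnet.hom_ext_lift₂ fun T g t => ?_
    rw [lift_fst_assoc, lift_whiskerLeft_assoc]
    simp only [Magnet.MonAct.lift_restrict_act, Magnet.MonAct.ofAction_act]
    change (g ≫ HMNum.incl (base k) ≫ θ₁ ≫ φ') = _
    rw [← Category.assoc, ← Category.assoc, Category.assoc g, incl_θ₁ g, Category.assoc, hφ', orbit₁,
      comp_lift_assoc, ← Category.assoc (σG g) η₁, σG_η₁, ← Category.assoc (σG g), toUnit_unique (σG g ≫ toUnit _) t]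
  obtain ⟨ξ, hξ⟩ := (GrpSch.AttrAffine.exists_attr_iff _ _ x).2 hfac
  exact ⟨_, ξ, hξ, rfl⟩

/-- The orbit closure read on the model line. -/
theorem exists_curve {a : AlgGrp.Action G X} {l : Red.Gm (base k) ⟶ G} [IsMonHom l] {x y : Pt X}
    (h : HMNum.IsLimitPt a l x y) :
    ∃ ψ : A₁ k ⟶ X, (∀ b : kˣ, pt (evalP (b : k)) ≫ ψ = lift (gm b ≫ l) x ≫ a.act) ∧
      pt (evalP (0 : k)) ≫ ψ = y := by
  obtain ⟨φ, hφx, hφy⟩ := h
  refine ⟨lift γ₁ (toUnit _) ≫ φ.1, fun b => ?_, ?_⟩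
  · have h1 := congrArg (lift (gm b) (𝟙 (𝟙_ (Over (base k)))) ≫ ·)
      (GrpSch.attr_restrict_eq (HMNum.gmAct a l) HMNum.plus φ)
    simp only [lift_whiskerRight_assoc, lift_whiskerLeft_assoc, Magnet.MonAct.lift_restrict_act,
      Magnet.MonAct.ofAction_act, Category.id_comp] at h1
    rw [hφx] at h1
    rw [comp_lift_assoc, pt_γ₁, toUnit_unique (pt (evalP (b : k)) ≫ toUnit _) (𝟙 _)]
    exact h1
  · rw [comp_lift_assoc, pt_γ₁_zero, toUnit_unique (pt (evalP (0 : k)) ≫ toUnit _) (𝟙 _), ← hφy,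
      HMNum.limitPt_eq, toUnit_unique (toUnit (𝟙_ (Over (base k)))) (𝟙 _), Category.id_comp]

/-- Functions along a curve are fractions near zero. -/
theorem exists_fraction (ψ : A₁ k ⟶ X) {W : X.left.Opens} (hW : pnt (pt (evalP (0 : k)) ≫ ψ) ∈ W) :
    ∃ q : Polynomial k, q.eval 0 ≠ 0 ∧ (∀ r : k, q.eval r ≠ 0 → pnt (pt (evalP r) ≫ ψ) ∈ W) ∧
      ∀ c : Γ(X.left, W), ∃ (A : Polynomial k) (e : ℕ), ∀ r : k, q.eval r ≠ 0 →
        vl c (pt (evalP r) ≫ ψ) * q.eval r ^ e = A.eval r := by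
  let p0 : ↥(A₁ k).left := pnt (pt (evalP (0 : k)))
  obtain ⟨_, ⟨q, rfl⟩, hq0, hqW⟩ := PrimeSpectrum.isTopologicalBasis_basic_opens.exists_subset_of_mem_open
    (show (p0 : PrimeSpectrum (Polynomial k)) ∈ (ψ.left ⁻¹ᵁ W).1 from hW) (ψ.left ⁻¹ᵁ W).2
  have hmem : ∀ r : k, (pnt (pt (evalP r)) : PrimeSpectrum (Polynomial k)) ∈ PrimeSpectrum.basicOpen q ↔
      q.eval r ≠ 0 := fun r => by
    change q ∉ ((IsLocalRing.closedPoint k).comap (evalP r).toRingHom).asIdeal ↔ _
    rw [PrimeSpectrum.comap_asIdeal, Ideal.mem_comap]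
    change evalP r q ∉ IsLocalRing.maximalIdeal k ↔ _
    rw [IsLocalRing.maximalIdeal_eq_bot, Ideal.mem_bot]
    simp [evalP, Polynomial.coe_aeval_eq_eval]
  refine ⟨q, (hmem 0).1 hq0, fun r hr => hqW ((hmem r).2 hr), fun c => ?_⟩
  let R := Localization.Away q
  let m : mdl (k := k) R ⟶ A₁ k := mdlMap (IsScalarTower.toAlgHom k (Polynomial k) R)
  have hm : ⊤ ≤ (m ≫ ψ).left ⁻¹ᵁ W := fun z _ => by
    refine hqW ?_
    have hz : m.left z ∈ Set.range (PrimeSpectrum.comap (algebraMap (Polynomial k) R)) := ⟨z, rfl⟩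
    rw [PrimeSpectrum.localization_away_comap_range R q] at hz
    exact hz
  obtain ⟨⟨A, s⟩, hA⟩ := IsLocalization.surj (Submonoid.powers q) (fn R ((m ≫ ψ).left.appLE W ⊤ hm c))
  obtain ⟨e, he⟩ := s.2
  refine ⟨A, e, fun r hr => ?_⟩
  let φ : R →ₐ[k] k := IsLocalization.liftAlgHom (M := Submonoid.powers q) (f := evalP r) (fun t => by
    obtain ⟨e', he'⟩ := t.2
    rw [← he', map_pow]
    exact (Ne.isUnit (by simpa [evalP, Polynomial.coe_aeval_eq_eval] using hr)).pow _)
  have hφ : ∀ P, φ (algebraMap (Polynomial k) R P) = P.eval r := fun P => by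
    rw [IsLocalization.liftAlgHom_apply, IsLocalization.lift_eq]
    simp [evalP, Polynomial.coe_aeval_eq_eval]
  have hpt : pt (evalP r) ≫ ψ = pt φ ≫ m ≫ ψ := by
    rw [← Category.assoc]
    congr 1
    apply Over.OverMorphism.ext
    change Spec.map _ = Spec.map _ ≫ Spec.map _
    rw [← Spec.map_comp]
    refine congrArg Spec.map (CommRingCat.hom_ext (RingHom.ext fun P => ?_))
    exact (by simp [evalP, Polynomial.coe_aeval_eq_eval] : evalP r P = P.eval r).trans (hφ P).symm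
  have h2 : ⊤ ≤ (pt φ ≫ m ≫ ψ).left ⁻¹ᵁ W := fun z _ => hm (trivial : (pt φ).left z ∈ (⊤ : (mdl (k := k) R).left.Opens))
  have h3 : ev ((pt φ ≫ m ≫ ψ).left.appLE W ⊤ h2 c) = φ (fn R ((m ≫ ψ).left.appLE W ⊤ hm c)) := by
    rw [← ev_pt, ← ConcreteCategory.comp_apply,
      show (pt φ).left.appTop = (pt φ).left.appLE ⊤ ⊤ le_top from Scheme.Hom.app_eq_appLE _,
      Scheme.Hom.appLE_comp_appLE]
    rfl
  have h4 := congrArg φ hA
  rw [map_mul, hφ, hφ, ← he] at h4
  rw [hpt, vl_eq _ _ h2, h3, ← h4]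
  simp

end

end Groth.Agent.H60.MuTorus
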