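import Groth.Prelude.Def_HMNum
import Groth.Agent.Lib.GrpSch.LineChart
import Groth.Agent.Lib.GrpSch.AttrAffine
import Groth.Agent.H4.RatExt
import Mathlib.Algebra.Polynomial.Laurent
import Mathlib.RingTheory.RegularLocalRing.Defs

/-!
Affine models of the multiplicative group and of the affine line, and values at rational points.
-/

set_option autoImplicit false
set_option backward.isDefEq.respectTransparency false
set_option backward.isDefEq.respectTransparency.types false

universe u

open CategoryTheory CategoryTheory.Limits AlgebraicGeometry MonoidalCategory CartesianMonoidalCategory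
open MonObj Opposite Groth.Agent.Lib Groth.Agent.Lib.RedPts LaurentPolynomial

namespace Groth.Agent.H60.MuTorus

noncomputable section

variable {k : Type u} [Field k]

/-- The base. -/
abbrev base (k : Type u) [Field k] : Scheme.{u} := Spec (CommRingCat.of k)

/-- The affine model attached to an algebra. -/
abbrev mdl (R : Type u) [CommRing R] [Algebra k R] : Over (base k) :=
  Over.mk (Spec.map (CommRingCat.ofHom (algebraMap k R)))

/-- The functions on an affine model. -/
def fn (R : Type u) [CommRing R] [Algebra k R] : Γ((mdl (k := k) R).left, ⊤) →+* R :=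
  (Scheme.ΓSpecIso (CommRingCat.of R)).hom.hom

/-- An element as a function on an affine model. -/
def fnInv (R : Type u) [CommRing R] [Algebra k R] : R →+* Γ((mdl (k := k) R).left, ⊤) :=
  (Scheme.ΓSpecIso (CommRingCat.of R)).inv.hom

theorem fn_fnInv (R : Type u) [CommRing R] [Algebra k R] (r : R) : fn (k := k) R (fnInv R r) = r :=
  ConcreteCategory.congr_hom (Scheme.ΓSpecIso (CommRingCat.of R)).inv_hom_id r

theorem fnInv_fn (R : Type u) [CommRing R] [Algebra k R] (r : Γ((mdl (k := k) R).left, ⊤)) :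
    fnInv R (fn (k := k) R r) = r :=
  ConcreteCategory.congr_hom (Scheme.ΓSpecIso (CommRingCat.of R)).hom_inv_id r

/-- The value of a function on the base. -/
def ev : Γ((𝟙_ (Over (base k))).left, ⊤) →+* k := (Scheme.ΓSpecIso (CommRingCat.of k)).hom.hom

/-- A scalar as a function on the base. -/
def evInv : k →+* Γ((𝟙_ (Over (base k))).left, ⊤) := (Scheme.ΓSpecIso (CommRingCat.of k)).inv.hom

theorem ev_evInv (r : k) : ev (evInv r) = r :=
  ConcreteCategory.congr_hom (Scheme.ΓSpecIso (CommRingCat.of k)).inv_hom_id r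

theorem ev_injective : Function.Injective (ev (k := k)) :=
  (ConcreteCategory.bijective_of_isIso (Scheme.ΓSpecIso (CommRingCat.of k)).hom).injective

/-- Morphisms of affine models. -/
def mdlMap {R R' : Type u} [CommRing R] [Algebra k R] [CommRing R'] [Algebra k R'] (φ : R →ₐ[k] R') :
    mdl (k := k) R' ⟶ mdl R :=
  Over.homMk (Spec.map (CommRingCat.ofHom φ.toRingHom)) (by
    change Spec.map _ ≫ Spec.map _ = Spec.map _
    rw [← Spec.map_comp, ← CommRingCat.ofHom_comp]
    exact congrArg Spec.map (CommRingCat.hom_ext φ.comp_algebraMap))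

/-- Rational points of affine models. -/
def pt {R : Type u} [CommRing R] [Algebra k R] (φ : R →ₐ[k] k) : 𝟙_ (Over (base k)) ⟶ mdl R :=
  Over.homMk (Spec.map (CommRingCat.ofHom φ.toRingHom)) (by
    change Spec.map _ ≫ Spec.map _ = 𝟙 _
    rw [← Spec.map_comp, ← CommRingCat.ofHom_comp]
    exact (congrArg Spec.map (CommRingCat.hom_ext φ.comp_algebraMap)).trans (Spec.map_id _))

theorem fn_mdlMap {R R' : Type u} [CommRing R] [Algebra k R] [CommRing R'] [Algebra k R'] (φ : R →ₐ[k] R')
    (x : Γ((mdl (k := k) R).left, ⊤)) : fn R' ((mdlMap φ).left.appTop x) = φ (fn R x) :=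
  ConcreteCategory.congr_hom (Scheme.ΓSpecIso_naturality (CommRingCat.ofHom φ.toRingHom)) x

theorem ev_pt {R : Type u} [CommRing R] [Algebra k R] (φ : R →ₐ[k] k)
    (x : Γ((mdl (k := k) R).left, ⊤)) : ev ((pt φ).left.appTop x) = φ (fn R x) :=
  ConcreteCategory.congr_hom (Scheme.ΓSpecIso_naturality (CommRingCat.ofHom φ.toRingHom)) x

/-- The structure map on functions. -/
def str (T : Over (base k)) : k →+* Γ(T.left, ⊤) := Points.ringHomOf T.hom

/-- The point of an affine model with given coordinates. -/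
def toMdl {R : Type u} [CommRing R] [Algebra k R] {T : Over (base k)} (φ : R →+* Γ(T.left, ⊤))
    (hφ : φ.comp (algebraMap k R) = str T) : T ⟶ mdl R :=
  Over.homMk (T.left.toSpecΓ ≫ Spec.map (CommRingCat.ofHom φ)) (by
    change (T.left.toSpecΓ ≫ Spec.map _) ≫ Spec.map _ = T.hom
    rw [Category.assoc, ← Spec.map_comp, ← CommRingCat.ofHom_comp, hφ]
    exact (Points.eq_toSpecΓ T.hom).symm)

theorem appTop_toMdl {R : Type u} [CommRing R] [Algebra k R] {T : Over (base k)} (φ : R →+* Γ(T.left, ⊤))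
    (hφ : φ.comp (algebraMap k R) = str T) (r : R) :
    (toMdl φ hφ).left.appTop (fnInv R r) = φ r :=
  RingHom.congr_fun (Points.ringHomOf_toSpecΓ φ) r

theorem ext_mdl {R : Type u} [CommRing R] [Algebra k R] {T : Over (base k)} {f g : T ⟶ mdl R}
    (h : ∀ r, f.left.appTop (fnInv R r) = g.left.appTop (fnInv R r)) : f = g :=
  Over.OverMorphism.ext (GrpSch.ext_of_ringHomOf (RingHom.ext h))

/-- The coordinate on the punctured line. -/
def tUnit : (k[T;T⁻¹])ˣ := ⟨T 1, T (-1), by rw [← T_add]; simp, by rw [← T_add]; simp⟩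

theorem val_tUnit_zpow (n : ℤ) : ((tUnit (k := k) ^ n : (k[T;T⁻¹])ˣ) : k[T;T⁻¹]) = T n := by
  induction n using Int.induction_on with
  | zero => simp
  | succ n ih => rw [zpow_add_one, Units.val_mul, ih, T_add]; rfl
  | pred n ih => rw [zpow_sub_one, Units.val_mul, ih, sub_eq_add_neg, T_add]; rfl

/-- The punctured affine line. -/
abbrev G₁ (k : Type u) [Field k] : Over (base k) := mdl k[T;T⁻¹]

/-- The affine line. -/
abbrev A₁ (k : Type u) [Field k] : Over (base k) := mdl (Polynomial k)

/-- The punctured line as the multiplicative group. -/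
def η₁ : G₁ k ⟶ Red.Gm (base k) :=
  GmPts.ptOfUnit (Units.map (fnInv (k := k) k[T;T⁻¹]).toMonoidHom tUnit)

theorem unitOfPt_η₁ : GmPts.unitOfPt (η₁ (k := k)) = Units.map (fnInv (k := k) k[T;T⁻¹]).toMonoidHom tUnit :=
  GmPts.unitOfPt_ptOfUnit _

/-- The coordinates of a point of the multiplicative group. -/
def σG {T : Over (base k)} (g : T ⟶ Red.Gm (base k)) : T ⟶ G₁ k :=
  toMdl (LaurentPolynomial.eval₂ (str T) (GmPts.unitOfPt g)) (by
    ext r
    rw [RingHom.comp_apply, ← C_eq_algebraMap, eval₂_C])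

theorem σG_η₁ {T : Over (base k)} (g : T ⟶ Red.Gm (base k)) : σG g ≫ η₁ = g := by
  have h : GmPts.unitOfPt (σG g ≫ η₁) = GmPts.unitOfPt g := by
    refine Units.ext ?_
    rw [GmPts.unitOfPt_comp, unitOfPt_η₁]
    change (σG g).left.appTop (fnInv k[T;T⁻¹] (LaurentPolynomial.T 1)) = _
    rw [σG, appTop_toMdl, eval₂_T]
    simp
  rw [← GmPts.ptOfUnit_unitOfPt (σG g ≫ η₁), h, GmPts.ptOfUnit_unitOfPt]

/-- The rational points of the multiplicative group. -/
def gm (a : kˣ) : 𝟙_ (Over (base k)) ⟶ Red.Gm (base k) :=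
  GmPts.ptOfUnit (Units.map (evInv (k := k)).toMonoidHom a)

theorem ev_unitOfPt_gm (a : kˣ) : ev (GmPts.unitOfPt (gm a) : Γ((𝟙_ (Over (base k))).left, ⊤)) = a := by
  rw [gm, GmPts.unitOfPt_ptOfUnit]
  exact ev_evInv _

theorem ev_zpow {u : (Γ((𝟙_ (Over (base k))).left, ⊤))ˣ} {a : kˣ} (h : ev u.val = a) (w : ℤ) :
    ev ((u ^ w : (Γ((𝟙_ (Over (base k))).left, ⊤))ˣ) : Γ((𝟙_ (Over (base k))).left, ⊤)) = ((a ^ w : kˣ) : k) := by
  have hu : Units.map (ev (k := k)).toMonoidHom u = a := Units.ext h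
  rw [← hu, ← map_zpow]
  rfl

theorem gm_mul (a b : kˣ) : gm (a * b) = gm a * gm b := by
  rw [gm, gm, gm, map_mul, GmPts.ptOfUnit_mul]

theorem gm_one : gm (1 : kˣ) = 1 := by rw [gm, map_one, GmPts.ptOfUnit_one]

theorem str_one : str (𝟙_ (Over (base k))) = evInv := by
  ext r
  change (Scheme.Hom.appTop (𝟙 (base k))) ((Scheme.ΓSpecIso (CommRingCat.of k)).inv r) = _
  simp only [Scheme.Hom.id_appTop]
  rfl

theorem laurent_ext {B : Type u} [CommRing B] {f g : k[T;T⁻¹] →+* B} (hC : ∀ r, f (C r) = g (C r))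
    (hT : f (T 1) = g (T 1)) : f = g := by
  have hu : Units.map f.toMonoidHom (tUnit (k := k)) = Units.map g.toMonoidHom tUnit := Units.ext hT
  have hn : ∀ n : ℤ, f (T n) = g (T n) := fun n => by
    have h := congrArg (fun u : Bˣ => ((u ^ n : Bˣ) : B)) hu
    simp only [← map_zpow, Units.coe_map, val_tUnit_zpow] at h
    exact h
  refine RingHom.ext fun q => ?_
  induction q using LaurentPolynomial.induction_on' with
  | add a b ha hb => rw [map_add, map_add, ha, hb]
  | C_mul_T n r => rw [map_mul, map_mul, hC, hn]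

/-- Evaluation of Laurent polynomials. -/
abbrev evalL (a : kˣ) : k[T;T⁻¹] →+* k := LaurentPolynomial.eval₂ (RingHom.id k) a

theorem evalL_T (a : kˣ) (n : ℤ) : evalL a (T n) = ((a ^ n : kˣ) : k) := eval₂_T _ _ _

theorem ev_σG_gm (a : kˣ) (c : Γ((G₁ k).left, ⊤)) :
    ev ((σG (gm a)).left.appTop c) = evalL a (fn k[T;T⁻¹] c) := by
  conv_lhs => rw [← fnInv_fn k[T;T⁻¹] c, σG, appTop_toMdl]
  have h : (ev (k := k)).comp (LaurentPolynomial.eval₂ (str (𝟙_ (Over (base k)))) (GmPts.unitOfPt (gm a))) =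
      evalL a := by
    refine laurent_ext (fun r => ?_) ?_
    · simp [evalL, str_one]
      exact ev_evInv r
    · rw [RingHom.comp_apply, eval₂_T, zpow_one, evalL_T, zpow_one, ev_unitOfPt_gm]
  exact RingHom.congr_fun h _

end

end Groth.Agent.H60.MuTorus
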